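/-
Sylow two-subgroups without normal elementary abelian subgroups of order eight and with a fused normal four-group:
the type `J₂`.
-/
import Cfsg.Agent.N8.A
set_option autoImplicit false
set_option linter.unusedSectionVars false

namespace CF.N8
open Subgroup Cfsg CF.BG CF.Sig CF.GW CF.Ab2 CF.MW CF.NC
open CF.SR (inv_zp)
open scoped commutatorElement

variable {G : Type*} [Group G] [Finite G]
variable {E K M N P Q R S T U V W X Y : Subgroup G} {a b c d f g h k p r s t u v w x y z : G}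

/-- the relations of the Sylow two-subgroup of `J₂` -/
structure JR (b c s : G) : Prop where
  bb : b * b = 1
  cc : c * c = 1
  ss : s * s = 1
  bc : b * c = c * b
  r1 : b * c * s * b * c * s * b * s * c * s * c * s * b * s = 1
  r2 : b * c * s * b * c * s * c * s * b * s * b * s * c * s = 1

theorem jr_of {b' c' : G} (bb : b * b = 1) (cc : c * c = 1) (ss : s * s = 1) (bc : b * c = c * b)
    (eb : s * b * s⁻¹ = b') (ec : s * c * s⁻¹ = c') (zz : z * z = 1) (ww : w * w = 1)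
    (cz : ∀ y ∈ [b, c, b', c', w], y * z = z * y) (cw : ∀ y ∈ [b, c, b', c'], y * w = w * y)
    (h1 : ⁅b, b'⁆ = z) (h2 : ⁅c, b'⁆ = z * w) (h3 : ⁅b, c'⁆ = w) (h4 : ⁅c, c'⁆ = z) : JR b c s := by
  have sq : ∀ {y : G}, y * y = 1 → ∀ x, y * (y * x) = x := fun e x => by rw [← mul_assoc, e, one_mul]
  have cm : ∀ {y a : G}, y * a = a * y → ∀ x, y * (a * x) = a * (y * x) := fun e x => by
    rw [← mul_assoc, e, mul_assoc]
  have mv : ∀ {y a v : G}, ⁅a, y⁆ = v → ∀ x, a * (y * x) = v * (y * (a * x)) := fun e x => by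
    rw [← e, commutatorElement_def]; group
  have bb' : b' * b' = 1 := by rw [← eb, ← conj_sq', bb]; simp
  have cc' : c' * c' = 1 := by rw [← ec, ← conj_sq', cc]; simp
  have bc' : b' * c' = c' * b' := by rw [← eb, ← ec, ← conj_mul', bc, conj_mul']
  simp only [List.forall_mem_cons, List.not_mem_nil, false_imp_iff, implies_true, and_true] at cz cw
  obtain ⟨z1, z2, z3, z4, z5⟩ := cz
  obtain ⟨w1, w2, w3, w4⟩ := cw
  rw [inv_eq_of_sq ss] at eb ec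
  refine ⟨bb, cc, ss, bc, ?_, ?_⟩
  · trans b * (c * (b' * (c' * (b * (c' * (c * (b' * 1)))))))
    · rw [← eb, ← ec]; simp only [mul_assoc, sq ss, mul_one]
    · simp only [mv h1, mv h2, mv h3, mv h4, cm bc, cm bc', cm z1, cm z2, cm z3, cm z4, cm z5, cm w1, cm w2, cm w3,
        cm w4, sq bb, sq cc, sq bb', sq cc', sq zz, sq ww, mul_assoc]
  · trans b * (c * (b' * (c' * (c * (b' * (b * (c' * 1)))))))
    · rw [← eb, ← ec]; simp only [mul_assoc, sq ss, mul_one]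
    · simp only [mv h1, mv h2, mv h3, mv h4, cm bc, cm bc', cm z1, cm z2, cm z3, cm z4, cm z5, cm w1, cm w2, cm w3,
        cm w4, sq bb, sq cc, sq bb', sq cc', sq zz, sq ww, mul_assoc]

namespace ST
variable (H : ST S P U z u h)
include H

theorem cl (hx : x ∈ P) (m : ⁅x, w⁆ ∈ U) (m' : ⁅y, w⁆ ∈ U) : ⁅x * y, w⁆ = ⁅x, w⁆ * ⁅y, w⁆ := by
  rw [comm_mul_l, H.cp hx m', H.ab.mul_comm m' m]
theorem cr (hy : y ∈ P) (m : ⁅x, w⁆ ∈ U) : ⁅x, y * w⁆ = ⁅x, y⁆ * ⁅x, w⁆ := by rw [comm_mul_r, H.cp hy m]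
theorem cs (m : ⁅x, y⁆ ∈ U) : ⁅y, x⁆ = ⁅x, y⁆ := by rw [← commutatorElement_inv, H.iU m]

variable (e : s * u * s⁻¹ = z * u) (hs : s ∈ S)
include e hs

theorem zt (ss : s * s = 1) (m : ⁅t, s * t * s⁻¹⁆ ∈ U) (n : ⁅t, s * t * s⁻¹⁆ ≠ 1) : ⁅t, s * t * s⁻¹⁆ = z :=
  (H.fixs e hs m (by rw [conj_comm, ← conj_conj (y := s) (x := s) rfl rfl, ss, one_mul, inv_one, mul_one, H.cs m])).resolve_left n

theorem jr (ss : s * s = 1) (l : R ≤ P) (hR : ∀ x ∈ R, ∀ y ∈ R, ⁅x, y⁆ ∈ U) (sR : s ∈ 𝐍 R) (hb : b ∈ R) (hc : c ∈ R)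
    (bb : b * b = 1) (cc : c * c = 1) (bc : b * c = c * b) (n1 : ⁅b, s * b * s⁻¹⁆ ≠ 1) (n2 : ⁅c, s * c * s⁻¹⁆ ≠ 1)
    (n3 : ⁅b * c, s * (b * c) * s⁻¹⁆ ≠ 1) :
    JR b c s ∧ ⁅b, s * b * s⁻¹⁆ = z ∧ (⁅b, s * c * s⁻¹⁆ = u ∨ ⁅b, s * c * s⁻¹⁆ = z * u) := by
  have hb' := conj_mem_of_norm sR hb
  have hc' := conj_mem_of_norm sR hc
  have h1 := H.zt e hs ss (hR _ hb _ hb') n1
  have h4 := H.zt e hs ss (hR _ hc _ hc') n2
  have h5 := H.zt e hs ss (hR _ (mul_mem hb hc) _ (conj_mem_of_norm sR (mul_mem hb hc))) n3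
  have m := hR _ hb _ hc'
  have m' := hR _ hc _ hb'
  rw [conj_mul', H.cl (l hb) (hR _ hb _ (mul_mem hb' hc')) (hR _ hc _ (mul_mem hb' hc')), H.cr (l hb') m,
    H.cr (l hb') (hR _ hc _ hc'), h1, h4, mul_assoc, mul_eq_left, ← mul_assoc, mul_eq_one_iff_eq_inv, H.zi,
    ← eq_inv_mul_iff_mul_eq, H.iU m, H.ab.mul_comm m H.zU] at h5
  have k : s * ⁅b, s * c * s⁻¹⁆ * s⁻¹ = z * ⁅b, s * c * s⁻¹⁆ := by
    rw [conj_comm, ← conj_conj (y := s) (x := s) rfl rfl, ss, one_mul, inv_one, mul_one, H.cs m', h5]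
  refine ⟨jr_of bb cc ss bc rfl rfl H.zz (H.ee m) (fun y hy => ?_) (fun y hy => ?_) h1 h5 rfl h4, h1, ?_⟩
  · simp only [List.mem_cons, List.not_mem_nil, or_false] at hy
    rcases hy with rfl | rfl | rfl | rfl | rfl
    exacts [H.cm (l hb) H.zU, H.cm (l hc) H.zU, H.cm (l hb') H.zU, H.cm (l hc') H.zU, H.ab.mul_comm m H.zU]
  · simp only [List.mem_cons, List.not_mem_nil, or_false] at hy
    rcases hy with rfl | rfl | rfl | rfl
    exacts [H.cm (l hb) m, H.cm (l hc) m, H.cm (l hb') m, H.cm (l hc') m]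
  · rcases H.mU'.1 m with j | j | j | j
    exacts [absurd (by simpa [j] using k.symm) H.z1, absurd ((j ▸ k).symm.trans (H.cz hs)) (H.zne z), .inl j, .inr j]

variable (l : P ≤ YY P U)
include l
omit e hs in
theorem cY (hx : x ∈ P) (hy : y ∈ P) : ⁅x, y⁆ ∈ U := ((mem_YY H.nUP).1 (l hx)).2.2 y hy
omit e hs in
theorem sY (hx : x ∈ P) : x * x ∈ U := ((mem_YY H.nUP).1 (l hx)).2.1

theorem ivC (hx : x ∈ P) (m : ⁅x, s⁆ ∈ U) (i : x * x = 1) : x ∈ U := H.ivm' hx i fun y hy => by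
  have k : ∀ p ∈ P, p ∈ Cm H.nUS x := fun p hp => ⟨H.PS hp, H.cY l hp hx⟩
  have : y ∈ Cm H.nUS x := (H.idx e hs hy).elim (k y) fun j =>
    (mul_mem_cancel_left (show s ∈ Cm H.nUS x from ⟨hs, H.cs m ▸ m⟩)).1 (k _ j)
  exact H.cs this.2 ▸ this.2

omit e in
theorem tC (ht : t ∈ P) : t * (s * t * s⁻¹) ∈ P ⊓ Cm H.nUS s := by
  have h' := H.nPS.conj_mem hs ht
  refine ⟨mul_mem ht h', H.PS (mul_mem ht h'), ?_⟩
  rw [show ⁅t * (s * t * s⁻¹), s⁆ = t * (s * t * s⁻¹) * ⁅s * s, t⁻¹⁆ * (t * (s * t * s⁻¹))⁻¹ * ⁅t, s * t * s⁻¹⁆ by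
    simp only [commutatorElement_def]; group]
  exact mul_mem (H.nUP.conj_mem (mul_mem ht h') (H.cY l (H.mP.2 ⟨mul_mem hs hs, H.sqP hs⟩) (inv_mem ht))) (H.cY l ht h')

omit e in
theorem cC (ht : t ∈ P) : ⁅t, s⁆ ∈ U ↔ t * (s * t * s⁻¹) ∈ U := by
  rw [show t * (s * t * s⁻¹) = ⁅t, s⁆ * (s * t * s⁻¹ * (s * t * s⁻¹)) by simp only [commutatorElement_def]; group,
    mul_mem_cancel_right (H.sY l (H.nPS.conj_mem hs ht))]

theorem ncm (ht : t ∈ P) (i : t * t = 1) (m : t ∉ U) : ⁅t, s * t * s⁻¹⁆ ≠ 1 := fun c => by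
  have j := H.tC hs l ht
  refine m (H.ivC e hs l ht ((H.cC hs l ht).2 (H.ivC e hs l j.1 j.2.2 ?_)) i)
  rw [sq_mul, H.cs (c ▸ one_mem U), c, i, ← conj_sq', i]; simp

theorem fixk (sk : s * k * s⁻¹ = k⁻¹) (fU : ∀ v ∈ U, k * v * k⁻¹ = v → v = 1) (hx : x ∈ P) (c : x ∈ 𝐂₁ k) : x = 1 := by
  have j : ∀ v ∈ U, v ∈ 𝐂₁ k → v = 1 := fun v hv c => fU v hv (conj_of_mul (mem_cent1.1 c).symm)
  have c' : s * x * s⁻¹ ∈ 𝐂₁ k := by
    have : s * x * s⁻¹ ∈ 𝐂₁ k⁻¹ := sk ▸ cj_cent1 s k ▸ conj_mem_cj.2 c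
    exact mem_cent1_comm.1 (inv_mem_iff.1 (mem_cent1_comm.1 this))
  exact j x (by_contra fun m => H.ncm e hs l hx (j _ (H.sY l hx) (mul_mem c c)) m
    (j _ (H.cY l hx (H.nPS.conj_mem hs hx)) (SR.comm_mem' c c'))) c

theorem card_C : ♯(P ⊓ Cm H.nUS s : Subgroup G) ≤ 16 := by
  have := sv (P := P ⊓ Cm H.nUS s) H.nUP (inf_le_left.trans H.PU) (inf_le_left.trans l) H.f.l fun x hx m =>
    (H.fixs e hs (H.sY l hx.1) (by
      rw [conj_sq', conj_eq_comm, H.cs hx.2.2, ← H.cm hx.1 hx.2.2, sq_mul_cent (H.PU hx.1) (fun _ => H.ee) hx.2.2])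
      ).resolve_left fun i => m (H.ivC e hs l hx.1 hx.2.2 i)
  rwa [H.c4] at this

omit e l in
theorem UC : U ≤ P ⊓ Cm H.nUS s := fun v hv => ⟨H.UP hv, H.nUS.le hv, by
  rw [commutatorElement_def, mul_assoc, mul_assoc, ← mul_assoc s]
  exact mul_mem hv (H.nUS.conj_mem hs (inv_mem hv))⟩

theorem card_P : ♯P ≤ 64 := by
  have n := H.nUS.norm
  have UC := H.UC hs
  have h1 := card_inf_le (Q := qt U P) (x := qe U s) (qt U (P ⊓ Cm H.nUS s)) fun q hq => by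
    obtain ⟨x, hx, nx, rfl⟩ := mem_qt.1 hq
    have j : ⁅x, s⁆ ∈ P ⊓ Cm H.nUS s := by
      rw [show ⁅x, s⁆ = x * (s * x * s⁻¹) * (s * x * s⁻¹ * (s * x * s⁻¹))⁻¹ by
        simp only [commutatorElement_def]; group]
      exact mul_mem (H.tC hs l hx) (inv_mem (UC (H.sY l (H.nPS.conj_mem hs hx))))
    rw [← qe_comm nx (n hs)]
    exact qe_mem_qt j (n (H.PS j.1))
  have h2 : qt U P ⊓ 𝐂₁ (qe U s) ≤ qt U (P ⊓ Cm H.nUS s) := fun q hq => by
    obtain ⟨x, hx, nx, rfl⟩ := mem_qt.1 hq.1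
    have := comm_eq_one (mem_cent1.1 hq.2)
    rw [← qe_comm nx (n hs), qe_eq_one (SR.comm_mem' nx (n hs))] at this
    exact qe_mem_qt ⟨hx, H.PS hx, this⟩ nx
  have h3 := card_le h2
  have h4 := card_mul_relIndex UC
  have h5 := card_mul_relIndex H.UP
  have h6 := H.card_C e hs l
  rw [card_qt H.nUP.norm] at h1
  rw [card_qt (inf_le_left.trans H.nUP.norm)] at h1 h3
  rw [H.c4] at h4 h5
  have := Nat.mul_le_mul (h3.trans (show _ ≤ 4 by omega)) (show U.relIndex (P ⊓ Cm H.nUS s) ≤ 4 by omega)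
  omega

variable (sh : s * h * s⁻¹ = h⁻¹)
include sh

theorem ss1 : s * s = 1 := H.fixk e hs l sh (fun _ => H.ca.fix) (H.mP.2 ⟨mul_mem hs hs, H.sqP hs⟩)
  (mem_cent1.2 (mul_of_conj (conj_conj sh (by rw [conj_inv' sh, inv_inv]))))

theorem fpf (hx : x ∈ P) (m : x * (h * h * x * (h * h)⁻¹) ∈ U) : x ∈ U := by
  have n := mul_mem H.nhP H.nhP
  obtain ⟨r, hr, c, j⟩ := fix_coset H.kP H.nUP n (mul_mem H.nhU H.nhU) (pow_two h ▸ H.o.pow 2) hx (by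
    rw [show ⁅x, h * h⁆ = x * (h * h * x * (h * h)⁻¹) * (h * h * x * (h * h)⁻¹ * (h * h * x * (h * h)⁻¹))⁻¹ by
      generalize h * h = k
      simp only [commutatorElement_def]; group]
    exact mul_mem m (inv_mem (H.sY l (conj_mem_of_norm n hx))))
  rwa [H.fixk e hs l (by rw [conj_two sh sh, mul_inv_rev]) (fun v hv j => by_contra fun v1 => ?_) hr c, inv_one,
    one_mul] at j
  exact conj_ne_one v1 h (mul_eq_left.1 ((H.ca.rho hv v1).symm.trans ((conj_conj rfl rfl).symm.trans j)))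

theorem tab (ht : t ∈ P) (i : t * t = 1) (m : t ∉ U) (hg : g ∈ zpowers h) (hk : k ∈ zpowers h) :
    ⁅k * k * t * (k * k)⁻¹, g * g * (s * t * s⁻¹) * (g * g)⁻¹⁆ = k * (g * z * g⁻¹) * k⁻¹ := by
  have c := zp_comm hg hk
  have hd := mul_mem hg (inv_mem hk)
  obtain ⟨d, rfl⟩ : ∃ d, g = d * k := ⟨g * k⁻¹, by group⟩
  rw [mul_inv_cancel_right] at hd
  have n := zpowers_le.2 H.nhP (inv_mem hd)
  have h1 := conj_mem_of_norm n ht
  have h2 := H.zt e hs (H.ss1 e hs l sh) (H.cY l h1 (H.nPS.conj_mem hs h1)) (H.ncm e hs l h1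
    (by rw [← conj_sq', i]; simp) fun j => m (by simpa [mul_assoc] using conj_mem_of_norm (zpowers_le.2 H.nhU hd) j))
  have h3 : s * d⁻¹ = d * s := by rw [mul_of_conj (conj_inv' (inv_zp sh hd)), inv_inv]
  have h4 : d * s⁻¹ = s⁻¹ * d⁻¹ := by rw [← mul_inv_rev, ← h3, mul_inv_rev, inv_inv]
  have c' := zp_comm hd hk
  rw [show s * (d⁻¹ * t * d⁻¹⁻¹) * s⁻¹ = s * d⁻¹ * t * (d * s⁻¹) by group, h3, h4] at h2
  rw [← h2, conj_comm, conj_comm, show d * k * (d * k) = k * (d * k) * d by rw [← mul_assoc k, ← c', mul_assoc _ k d, ← c']]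
  congr 1
  · rw [c']; group
  · group

theorem pair : ∃ t ∈ P, t * t = 1 ∧ t ∉ U ∧ ⁅t, h * h * t * (h * h)⁻¹⁆ = 1 := by
  by_contra! f
  obtain ⟨t, ht, i, m⟩ := H.rk3
  have h0 := mem_zpowers h
  have n : ∀ g ∈ zpowers h, g * g ∈ 𝐍 P := fun g hg => zpowers_le.2 H.nhP (mul_mem hg hg)
  have t' := H.nPS.conj_mem hs ht
  let B := fun g => g * g * (s * t * s⁻¹) * (g * g)⁻¹
  have hB : ∀ g ∈ zpowers h, B g ∈ P := fun g hg => conj_mem_of_norm (n g hg) t'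
  have cB : ∀ g ∈ zpowers h, h * h * B g * (h * h)⁻¹ = B (g * h) := fun g hg => by
    simp only [B]
    rw [show g * h * (g * h) = h * h * (g * g) by
      rw [mul_assoc g, ← mul_assoc h, zp_comm h0 hg, zp_comm (mul_mem h0 h0) (mul_mem hg hg)]; group]
    group
  have iB : ∀ g, B g * B g = 1 := fun g => by simp only [B]; rw [← conj_sq', ← conj_sq', i]; simp
  let c := fun g => B g * (B (g * h) * B (g * h * h))
  have hc : ∀ g ∈ zpowers h, c g ∈ P := fun g hg =>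
    mul_mem (hB g hg) (mul_mem (hB _ (mul_mem hg h0)) (hB _ (mul_mem (mul_mem hg h0) h0)))
  have rz := H.ca.rho H.zU H.z1
  have F := H.ca.fp H.zU H.z1
  have pc : ∀ g ∈ zpowers h, ∀ k ∈ zpowers h, c g ∈ 𝐂₁ (k * k * t * (k * k)⁻¹) := fun g hg k hk => by
    have a := conj_mem_of_norm (n k hk) ht
    have b1 := hB _ (mul_mem hg h0)
    have b2 := hB _ (mul_mem (mul_mem hg h0) h0)
    refine mem_cent1.2 (comm_of_eq_one ?_).symm
    rw [H.cr (hB g hg) (H.cY l a (mul_mem b1 b2)), H.cr b1 (H.cY l a b2), H.tab e hs l sh ht i m hg hk,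
      H.tab e hs l sh ht i m (mul_mem hg h0) hk, H.tab e hs l sh ht i m (mul_mem (mul_mem hg h0) h0) hk,
      conj_conj (y := h) (x := g) rfl rfl, conj_conj (y := h) (x := g * h) rfl rfl,
      conj_conj (y := h) (x := g) rfl rfl, rz, ← conj_mul', ← conj_mul', ← conj_mul', ← conj_mul', ← mul_assoc z,
      F.iv.sq]
    simp
  have c1 : h * h * c 1 * (h * h)⁻¹ = c h := by
    simp only [c]
    rw [conj_mul' _ (B 1), conj_mul' _ (B _), cB 1 (one_mem _), cB _ (mul_mem (one_mem _) h0),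
      cB _ (mul_mem (mul_mem (one_mem _) h0) h0), one_mul]
  have m1 : c 1 ∉ U := fun j => by
    have b1 := hB 1 (one_mem _)
    have b2 := hB _ (mul_mem (one_mem _) h0)
    have b3 := hB _ (mul_mem (mul_mem (one_mem _) h0) h0)
    have k := sq_mul_cent (H.PU b3) (fun _ => H.ee) j
    rw [iB, H.cm b3 j, show c 1 * B (1 * h * h) = B 1 * B (1 * h) by rw [mul_assoc (B 1), mul_assoc (B _), iB, mul_one],
      sq_mul, iB, iB, mul_one, mul_one, conj_eq_one_iff, ← cB 1 (one_mem _)] at k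
    refine f _ b1 (iB 1) (fun j => m ?_) (H.cs (k ▸ one_mem U) ▸ k)
    simpa [B, mul_assoc] using H.nUS.conj_mem' hs j
  have K : P ⊓ 𝐂₁ t ⊴ P := normal_of_comm (le_inf H.UP fun v hv => mem_cent1.2 (H.cm ht hv).symm) inf_le_left
    fun x hx y hy => H.cY l hx.1 hy
  have UK : U ≤ P ⊓ 𝐂₁ t := le_inf H.UP fun v hv => mem_cent1.2 (H.cm ht hv).symm
  have YK : ∀ x ∈ P, x ∈ YY P (P ⊓ 𝐂₁ t) := fun x hx =>
    (mem_YY K).2 ⟨hx, UK (H.sY l hx), fun y hy => UK (H.cY l hx hy)⟩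
  have a0 : ∀ g ∈ zpowers h, ⁅t, B g⁆ = g * z * g⁻¹ := fun g hg => by
    simpa [B] using H.tab e hs l sh ht i m hg (one_mem _)
  have nK : ∀ x, ⁅t, x⁆ ≠ 1 → x ∉ P ⊓ 𝐂₁ t := fun x j k => j (comm_eq_one (mem_cent1.1 k.2).symm)
  have h1 := card_two K (YK _ (hB 1 (one_mem _))) (YK _ (hB h h0)) (nK _ (a0 1 (one_mem _) ▸ conj_ne_one H.z1 1))
    (nK _ (a0 h h0 ▸ F.r.ne_one)) (nK _ (by
      rw [H.cr (hB 1 (one_mem _)) (H.cY l ht (hB h h0)), a0 1 (one_mem _), a0 h h0]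
      simpa using F.iv.ne_one))
  have h2 := (card_le (sup_le (sup_le inf_le_left (zpowers_le.2 (hB 1 (one_mem _)))) (zpowers_le.2 (hB h h0)) :
    P ⊓ 𝐂₁ t ⊔ _ ⊔ _ ≤ P)).trans (H.card_P e hs l)
  have h3 := card_two H.nUP (l (hc 1 (one_mem _))) (l (hc h h0)) m1
    (fun j => m1 (by simpa [← c1, mul_assoc] using conj_mem_of_norm' (mul_mem H.nhU H.nhU) j))
    fun j => m1 (H.fpf e hs l sh (hc 1 (one_mem _)) (c1 ▸ j))
  have h4 : ∀ k ∈ zpowers h, U ⊔ zpowers (c 1) ⊔ zpowers (c h) ≤ P ⊓ 𝐂₁ (k * k * t * (k * k)⁻¹) := fun k hk =>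
    sup_le (sup_le (le_inf H.UP fun v hv => mem_cent1.2 (H.cm (conj_mem_of_norm (n k hk) ht) hv).symm)
      (zpowers_le.2 ⟨hc 1 (one_mem _), pc 1 (one_mem _) k hk⟩)) (zpowers_le.2 ⟨hc h h0, pc h h0 k hk⟩)
  have h5 := h4 1 (one_mem _)
  rw [mul_one, one_mul, inv_one, mul_one] at h5
  exact f t ht i m (comm_eq_one (mem_cent1.1 (h4 h h0 ((eq_of_le_of_card_ge h5 (by rw [h3, H.c4]; omega)).ge
    ⟨ht, self_mem_cent1 t⟩)).2))

theorem typeJ : ∃ b ∈ P, ∃ c ∈ P, JR b c s ∧ ⁅b, s * b * s⁻¹⁆ = z ∧ S ≤ closure {b, c, s} := by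
  obtain ⟨b, hb, bb, mb, k⟩ := H.pair e hs l sh
  obtain ⟨c, hc'⟩ : ∃ c, c = h * h * b * (h * h)⁻¹ := ⟨_, rfl⟩
  have hc : c ∈ P := hc' ▸ conj_mem_of_norm (mul_mem H.nhP H.nhP) hb
  have cc : c * c = 1 := by rw [hc', ← conj_sq', bb]; simp
  have mc : c ∉ U := fun j => mb (by simpa [hc', mul_assoc] using conj_mem_of_norm' (mul_mem H.nhU H.nhU) j)
  have mbc : b * c ∉ U := fun j => mb (H.fpf e hs l sh hb (hc' ▸ j))
  have bc : b * c = c * b := comm_of_eq_one (hc' ▸ k)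
  obtain ⟨J, h1, h2⟩ := H.jr e hs (H.ss1 e hs l sh) le_rfl (fun _ hx _ => H.cY l hx) (H.nPS.norm hs) hb hc bb cc bc
    (H.ncm e hs l hb bb mb) (H.ncm e hs l hc cc mc) (H.ncm e hs l (mul_mem hb hc) (by
      rw [mul_assoc, ← mul_assoc c, ← bc, mul_assoc, cc, mul_one, bb]) mbc)
  refine ⟨b, hb, c, hc, J, h1, ?_⟩
  have UC := H.UC hs
  have nC : ∀ t ∈ P, t * t = 1 → t ∉ U → t ∉ P ⊓ Cm H.nUS s := fun t ht i m j => m (H.ivC e hs l ht j.2.2 i)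
  have bc2 : b * c * (b * c) = 1 := by rw [mul_assoc, ← mul_assoc c, ← bc, mul_assoc, cc, mul_one, bb]
  have K : P ⊓ Cm H.nUS s ⊴ P := normal_of_comm UC inf_le_left fun x hx y hy => H.cY l hx.1 hy
  have YK : ∀ x ∈ P, x ∈ YY P (P ⊓ Cm H.nUS s) := fun x hx =>
    (mem_YY K).2 ⟨hx, UC (H.sY l hx), fun y hy => UC (H.cY l hx hy)⟩
  have a1 := card_two K (YK b hb) (YK c hc) (nC b hb bb mb) (nC c hc cc mc) (nC _ (mul_mem hb hc) bc2 mbc)
  have xb := H.tC hs l hb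
  have xc := H.tC hs l hc
  have nU : ∀ t ∈ P, t * t = 1 → t ∉ U → t * (s * t * s⁻¹) ∉ U := fun t ht i m j =>
    nC t ht i m ⟨ht, H.PS ht, (H.cC hs l ht).2 j⟩
  have a2 := card_two H.nUP (l xb.1) (l xc.1) (nU b hb bb mb) (nU c hc cc mc) fun j => nU _ (mul_mem hb hc) bc2 mbc (by
    have b' := H.nPS.conj_mem hs hb
    rw [show b * c * (s * (b * c) * s⁻¹) = b * ⁅c, s * b * s⁻¹⁆ * b⁻¹ * (b * (s * b * s⁻¹) * (c * (s * c * s⁻¹))) by
      simp only [commutatorElement_def]; group]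
    exact mul_mem (H.nUP.conj_mem hb (H.cY l hc b')) j)
  have a3 := eq_of_le_of_card_ge (sup_le (sup_le UC (zpowers_le.2 xb)) (zpowers_le.2 xc))
    (by rw [a2, H.c4]; exact H.card_C e hs l)
  have a4 := eq_of_le_of_card_ge (sup_le (sup_le inf_le_left (zpowers_le.2 hb)) (zpowers_le.2 hc) :
    P ⊓ Cm H.nUS s ⊔ _ ⊔ _ ≤ P) (by rw [a1, ← a3, a2, H.c4]; exact H.card_P e hs l)
  have mb : b ∈ closure {b, c, s} := subset_closure (by simp)
  have mc : c ∈ closure {b, c, s} := subset_closure (by simp)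
  have ms : s ∈ closure {b, c, s} := subset_closure (by simp)
  have cj : ∀ x ∈ closure {b, c, s}, s * x * s⁻¹ ∈ closure {b, c, s} := fun x hx => mul_mem (mul_mem ms hx) (inv_mem ms)
  have mz := h1 ▸ SR.comm_mem' mb (cj b mb)
  have mw := SR.comm_mem' mb (cj c mc)
  have lP : P ≤ closure {b, c, s} := by
    rw [← a4, ← a3, H.hU]
    refine sup_le (sup_le (sup_le (sup_le (V4_le.2 ⟨mz, ?_⟩) (zpowers_le.2 (mul_mem mb (cj b mb))))
      (zpowers_le.2 (mul_mem mc (cj c mc)))) (zpowers_le.2 mb)) (zpowers_le.2 mc)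
    exact h2.elim (fun j => j ▸ mw) fun j => (mul_mem_cancel_left mz).1 (j ▸ mw)
  exact fun x hx => (H.idx e hs hx).elim (fun j => lP j) fun j => (mul_mem_cancel_left ms).1 (lP j)

end ST

end CF.N8
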