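import Cfsg.Agent.N8.M
import Cfsg.Agent.DD.A

/-! Fusion in groups whose Sylow 2-subgroup is `(ℤ/2ⁿ)² ⋊ 2²`. -/

set_option autoImplicit false

namespace CF.N8

open Subgroup Cfsg CF.Invol CF.BG CF.Sig CF.GW CF.Ab2 CF.W2

namespace Par
variable (p : Par)

/-- reduction modulo two -/
def par : p.R →+* ZMod 2 := ZMod.castHom (dvd_pow_self 2 (by have := p.hn; omega)) (ZMod 2)

theorem par_two (a : p.R) : p.par (2 * a) = 0 := by rw [map_mul, map_ofNat]; exact zero_mul _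
theorem par_w : p.par p.w = 0 := p.v2 ▸ p.par_two _

@[simp] theorem par_e : p.par p.ε = 1 := by
  rcases p.hε with e | ⟨-, e⟩ <;> rw [e]
  · simp
  · simp [p.par_w]

theorem even_of {a : p.R} (h : p.par a = 0) : ∃ c, a = 2 * c := by
  obtain ⟨c, rfl | rfl⟩ := zm_even_or_odd a
  · exact ⟨c, rfl⟩
  · simp [p.par_two] at h

theorem half {a : p.R} (h : p.par a = 0) : ∃ x, a = x - p.ε * x := by
  obtain ⟨c, rfl⟩ := p.even_of h
  rcases p.hε with e | ⟨h3, e⟩ <;> rw [e]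
  · exact ⟨c, by ring⟩
  · exact ⟨c * (1 + p.v), by linear_combination c * zh_mul_zq h3 - c * p.v2⟩

theorem e1 (a : p.R) : a + p.ε * a = 0 ∨ a + p.ε * a = p.w := p.two_eq.1 (by linear_combination a * p.e2)

theorem four {a : p.R} (h : 2 * (2 * a) = 0) (k : 2 * a ≠ 0) : a = p.v ∨ a = -p.v :=
  p.two_eq_w.1 ((p.two_eq.1 h).resolve_left k)

end Par

namespace GT
variable {p : Par}

/-- the sign of the first flag -/
def χe : GT p →* ℤˣ := MonoidHom.mk' (fun x => if x.e then -1 else 1)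
  fun ⟨_, _, e, _⟩ ⟨_, _, f, _⟩ => by cases e <;> cases f <;> simp

/-- the sign of the second flag -/
def χs : GT p →* ℤˣ := MonoidHom.mk' (fun x => if x.s then -1 else 1)
  fun ⟨_, _, _, e⟩ ⟨_, _, _, f⟩ => by cases e <;> cases f <;> simp

/-- the parity -/
def χp : GT p →* ℤˣ := MonoidHom.mk' (fun x => (-1) ^ p.par (x.a + x.b))
  fun ⟨a, b, e, s⟩ ⟨c, d, _, _⟩ => by
    rw [← uzpow_add]; congr 1
    cases e <;> cases s <;> simp <;> ring

abbrev c' : GT p := A p.v p.v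
abbrev d' : GT p := A p.v (-p.v)

theorem c'_sq : (c' : GT p) * c' = z := by simp [← two_mul, p.v2]
theorem d'_sq : (d' : GT p) * d' = z := by
  simp only [mm, mk.injEq, and_true]
  exact ⟨by linear_combination p.v2, by linear_combination -p.v2 - p.w2⟩

theorem sq_A (x : GT p) : ∃ a b, x * x = A a b := by
  obtain ⟨a, b, e, s⟩ := x
  exact ⟨_, _, by rw [mk_mul, Bool.xor_self, Bool.xor_self]⟩

theorem sq_cases {x : GT p} (h : x * x * (x * x) = 1) : x * x = 1 ∨ x * x = z ∨ x * x = u ∨ x * x = u' := by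
  obtain ⟨a, b, e⟩ := sq_A x
  rw [e] at h ⊢
  simp only [mm, eq1, ← two_mul, p.two_eq] at h
  obtain ⟨rfl | rfl, rfl | rfl, -⟩ := h <;> simp

theorem su : (S 0 0 : GT p) * u' = u * S 0 0 := by simp
theorem uz : (u : GT p) ≠ z := by simp [p.w0.symm]

theorem root {y : GT p} (h : y * y = 1) :
    (∃ x, x * y = y * x ∧ x * x = z) ∨ ∃ a b, y = R a b ∧ p.par (a + b) = 1 := by
  obtain ⟨a, b, e, s⟩ := y
  cases e <;> cases s
  · exact .inl ⟨c', by simp [add_comm], c'_sq⟩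
  · exact .inl ⟨c', by simp [add_comm], c'_sq⟩
  · by_cases k : p.par (a - b) = 0
    · obtain ⟨x, k⟩ := p.half k
      refine .inl ⟨S x (p.w - x), ?_, by simp⟩
      simp only [mm, mk.injEq, and_true]
      exact ⟨by linear_combination -k, by linear_combination k - p.ew⟩
    · refine .inr ⟨a, b, rfl, ?_⟩
      rw [show a + b = a - b + 2 * b by ring, map_add, p.par_two, add_zero]
      revert k; generalize p.par (a - b) = t; revert t; decide
  · exact .inl ⟨d', by simp [add_comm, p.ev], d'_sq⟩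

theorem conj_R {a b c d : p.R} (h : p.par (a - c) = 0) (k : p.par (b - d) = 0) :
    ∃ g : GT p, g * R c d = R a b * g := by
  obtain ⟨x, h⟩ := p.half h
  obtain ⟨y, k⟩ := p.half k
  refine ⟨A x y, ?_⟩
  simp only [mm, mk.injEq, and_true]
  exact ⟨by linear_combination -h, by linear_combination -k⟩

theorem cent_odd {a b : p.R} (h : p.par (a + b) = 1) {x : GT p} (c : x * R a b = R a b * x) :
    (∃ k l, x = A k l) ∨ ∃ g, g * R a b = x * g := by
  obtain ⟨k, l, e, s⟩ := x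
  have f : ∀ t : p.R, (t = 0 ∨ t = p.w) → p.par t = 0 := by
    rintro _ (rfl | rfl); exacts [map_zero _, p.par_w]
  cases e <;> cases s <;> simp only [mm, mk.injEq, and_true] at c
  · exact .inl ⟨k, l, rfl⟩
  · have := congrArg p.par c.1
    simp only [map_add, map_mul, Par.par_e] at this h
    exfalso; revert this h; generalize p.par a = x, p.par b = y, p.par k = t; revert x y t; decide
  · exact .inr (conj_R (f _ (p.fix (by linear_combination -c.1))) (f _ (p.fix (by linear_combination -c.2))))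
  · have := congrArg p.par c.1
    simp only [map_add, map_mul, Par.par_e] at this h
    exfalso; revert this h; generalize p.par a = x, p.par b = y, p.par k = t; revert x y t; decide

theorem four_cases {a b : p.R} (h : A a b * A a b * (A a b * A a b) = (1 : GT p)) (k : A a b * A a b ≠ (1 : GT p)) :
    (a = b → A a b = (c' : GT p) ∨ A a b = (c' : GT p)⁻¹) ∧
      (a = -b ∨ a = p.ε * b → A a b = (d' : GT p) ∨ A a b = (d' : GT p)⁻¹) := by
  simp only [mm, eq1, ← two_mul, ne_eq, and_true] at h k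
  refine ⟨fun e => ?_, fun e => ?_⟩
  · subst e
    rcases p.four h.1 (fun e => k ⟨e, e⟩) with rfl | rfl <;> simp
  · rcases p.four h.2 (fun q => k ⟨by
      rcases e with rfl | rfl
      · linear_combination -q
      · linear_combination p.ε * q, q⟩) with rfl | rfl <;> rcases e with rfl | rfl <;> simp [p.ev]

theorem normal_four {x : GT p} (h : ∀ g, g * x * g⁻¹ = x ∨ g * x * g⁻¹ = x⁻¹) (h4 : x * x * (x * x) = 1)
    (h2 : x * x ≠ 1) : (x = c' ∨ x = c'⁻¹) ∨ x = d' ∨ x = d'⁻¹ := by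
  obtain ⟨a, b, e, s⟩ := x
  have h1 := h (A 1 0)
  have h3 := h (A 2 0)
  have o : (1 : p.R) ≠ 0 := fun e => p.two0 (by linear_combination 2 * e)
  cases e <;> cases s
  · have := four_cases h4 h2
    rcases h (S 0 0) with k | k <;> simp only [mm, mk.injEq, and_true] at k
    · exact .inl (this.1 (by linear_combination k.2))
    · exact .inr (this.2 (.inl (by linear_combination k.2)))
  all_goals
    exfalso
    simp only [mm, mk.injEq, and_true, ne_eq, eq1] at h1 h2 h3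
  · rcases h1 with h1 | h1
    · exact o (by linear_combination h1.1)
    rcases h3 with h3 | h3
    · exact p.two0 (by linear_combination h3.1)
    · exact o (by linear_combination h3.1 - h1.1)
  · rcases p.hε with e | ⟨n3, e⟩
    · exact h2 (by simp [e])
    have : (2 : p.R) * (2 * 1) = 0 := by
      rcases h1 with h1 | h1
      · linear_combination 2 * h1.1 + p.e2
      · linear_combination 2 * h1.1 + p.e2 - a * p.e2
    rcases p.four this (by simpa using p.two0) with q | q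
    · exact p.odd (ze p.n) 0 (by linear_combination two_mul_ze n3 - q)
    · exact p.odd (-ze p.n) 0 (by linear_combination -two_mul_ze n3 - q)
  · rcases h1 with h1 | h1
    · exact o (by linear_combination h1.1)
    rcases h3 with h3 | h3
    · exact p.two0 (by linear_combination h3.1)
    · exact o (by linear_combination h3.1 - h1.1)

theorem conj_c' (g : GT p) : g * c' * g⁻¹ = c' ∨ g * c' * g⁻¹ = c'⁻¹ := by
  obtain ⟨a, b, e, s⟩ := g
  cases e <;> cases s <;> simp [p.ev, ← mul_assoc, p.ee]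

theorem conj_d' (g : GT p) : g * d' * g⁻¹ = d' ∨ g * d' * g⁻¹ = d'⁻¹ := by
  obtain ⟨a, b, e, s⟩ := g
  cases e <;> cases s <;> simp [p.ev, ← mul_assoc, p.ee]

theorem cls_S {a b : p.R} (h : S a b * S a b = (1 : GT p)) : ∃ g : GT p, g * S a b = S 0 0 * g :=
  ⟨A (-a) 0, by simp at h ⊢; linear_combination h.1⟩

theorem cls_T {a b : p.R} (h : T a b * T a b = (1 : GT p)) : ∃ g : GT p, g * T a b = T 0 0 * g :=
  ⟨A (-a) 0, by simp at h ⊢; linear_combination h.2⟩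

theorem cls_A {a b : p.R} (h : A a b * A a b = (1 : GT p)) (k : A a b ≠ (1 : GT p)) :
    A a b = (z : GT p) ∨ A a b = (u : GT p) ∨ A a b = (u' : GT p) := by
  simp only [mm, eq1, ← two_mul, p.two_eq] at h
  obtain ⟨rfl | rfl, rfl | rfl, -⟩ := h <;> simp at k ⊢

end GT

open GT

universe v
variable {G : Type v} [Group G] [Finite G] {p : Par} {φ : GT p →* G} (h : SM φ) {g : G} {x y : GT p}
include h

theorem toZ (e : Dz φ y z) : ∃ g, Cj φ g y z ∧ ∀ c, c * y = y * c → ∃ d, Cj φ g c d :=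
  let ⟨g, k, l⟩ := h.to_ext (h.syl_z zc) e
  ⟨g, k, fun c hc => (l c hc).imp fun _ q => q.2⟩

theorem key (e : Dz φ y z) (n : y ≠ z) (c : x * y = y * x) (xx : x * x = z) : ∃ g, Cj φ g y z ∧ Cj φ g z u := by
  obtain ⟨g, k, l⟩ := toZ h e
  obtain ⟨d, hd⟩ := l x c
  have q := (hd.mul hd).cast xx rfl
  rcases sq_cases (tr h.inj (q.mul q) (Cj.one g) zz) with r | r | r | r <;> rw [r] at q
  · exact absurd (tr h.inj q.symm (Cj.one _) rfl) z1
  · exact absurd ((eq_iff h.inj k q).2 rfl) n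
  · exact ⟨g, k, q⟩
  · exact ⟨_, k.comp (Cj.of' (zc _)), q.comp (Cj.of' su)⟩

theorem fus_u (e : Dz φ y z) (n : y ≠ z) : Dz φ u z := by
  by_contra hu
  have o : ∀ {y}, Dz φ y z → y ≠ z → ∃ a b, y = R a b ∧ p.par (a + b) = 1 := fun {y} e n => by
    obtain ⟨g, k⟩ := id e
    refine (root (tr h.inj (k.symm.mul k.symm) (Cj.one _) zz)).resolve_left fun ⟨x, c, xx⟩ => hu ?_
    obtain ⟨g, -, q⟩ := key h e n c xx
    exact ⟨_, q.symm⟩
  obtain ⟨a, b, rfl, -⟩ := o e n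
  obtain ⟨g, k, l⟩ := toZ h e
  obtain ⟨d, hd⟩ := l u (by simp [p.ew, add_comm])
  obtain ⟨d', hd'⟩ := l u' (by simp [p.ew, add_comm])
  have q := (hd.mul hd').cast (show _ = z by simp) rfl
  obtain ⟨a', b', e', o'⟩ := o ⟨_, q.symm⟩ fun e => n ((eq_iff h.inj k q).2 e.symm)
  have f : ∀ {t d}, ¬ Dz φ t z → Cj φ g t d → ∃ k l, d = A k l := fun {t d} m j =>
    (cent_odd o' (e' ▸ tr h.inj (j.mul q) (q.mul j) (zc t))).resolve_right fun ⟨c, hc⟩ =>
      m ⟨_, (j.comp (Cj.of' hc).symm).comp (q.symm.cast e' rfl)⟩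
  obtain ⟨_, _, rfl⟩ := f hu hd
  obtain ⟨_, _, rfl⟩ := f (fun ⟨_, m⟩ => hu ⟨_, (Cj.of' su).symm.comp m⟩) hd'
  simp at e'

theorem not_cd : ¬ Dz φ d' c' := by
  rintro ⟨g, e⟩
  have nm : ∀ {x : GT p}, (∀ g, g * x * g⁻¹ = x ∨ g * x * g⁻¹ = x⁻¹) → φ.range ≤ 𝐍 (zpowers (φ x)) := by
    rintro x c _ ⟨a, rfl⟩
    refine mem_norm_of_cj_le ?_
    rw [cj_zpowers, zpowers_le, show φ a * φ x * (φ a)⁻¹ = _ from Cj.of a x]
    rcases c a with q | q <;> simp [q]
  obtain ⟨k, hk, l⟩ := move (R := ⊤) (L := ⊤) (g := g) (MonoidHom.range_eq_map φ ▸ h.syl.of_le (nm conj_c') le_top)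
    (h.pi _) (by rw [← show _ = φ c' from e, ← cj_zpowers, ← cj_norm, ← MonoidHom.range_eq_map]
                 exact cj_mono g (nm conj_d'))
  have n : k * g ∈ 𝐍 φ.range := mem_norm_of_cj_le fun _ hx => by
    obtain ⟨_, ⟨a, rfl⟩, e⟩ := mem_cj_iff.1 hx
    obtain ⟨d, -, q⟩ := l a trivial
    exact ⟨d, Eq.trans (Eq.symm q) e⟩
  obtain ⟨s, hs, m, hm, -, o, e'⟩ := DD.odd_part h.syl n
  have ne : zpowers (φ c') ≠ zpowers (φ d') := fun q => by
    obtain ⟨j, hj⟩ := q.ge (mem_zpowers _)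
    have := h.inj ((map_zpow φ _ j).trans hj)
    simp only [A_zpow, GT.mk.injEq, and_true] at this
    exact p.w0 (by linear_combination this.2 - this.1 - p.v2)
  have e1 : cj m (zpowers (φ d')) = zpowers (φ c') := by
    rw [← cj_inj (g := s), cj_cj, e', ← cj_cj, cj_zpowers, show _ = φ c' from e, cj_of_norm hk,
      cj_of_norm (nm conj_c' hs)]
  obtain ⟨t, ht⟩ := (cj_of_norm hm).le (conj_mem_cj.2 ⟨c', rfl⟩)
  replace ht : Cj φ m c' t := ht.symm
  have e2 : cj m (zpowers (φ c')) = zpowers (φ t) := by rw [cj_zpowers, show _ = φ t from ht]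
  rcases normal_four (x := t) (fun a => by
      obtain ⟨_, ⟨b, rfl⟩, q⟩ := mem_cj_iff.1 ((cj_of_norm hm).ge ⟨a, rfl⟩)
      exact (conj_c' b).imp (tr h.inj (Cj.conj q ht) ht) (tr h.inj (Cj.conj q ht) ht.inv))
    (tr h.inj ((ht.mul ht).mul (ht.mul ht)) (Cj.one m) (by rw [c'_sq, zz]))
    (mt (eq_iff h.inj (ht.mul ht) (Cj.one m)).2 (c'_sq ▸ z1)) with q | q
  · exact ne (cj_inj.1 (e2.trans ((by rcases q with rfl | rfl <;> simp only [map_inv, zpowers_inv] : _ = _).trans e1.symm)))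
  · refine ne (e1.symm.trans (cj_of_norm (sq_mem_of_odd o (cj_eq_self.1 ?_))))
    rw [← cj_cj, e1, e2]
    rcases q with rfl | rfl <;> simp only [map_inv, zpowers_inv]

theorem not_cd' {x y : GT p} (hx : x = c' ∨ x = c'⁻¹) (hy : y = d' ∨ y = d'⁻¹) : ¬ Dz φ y x := fun e => by
  have a : (R 0 0 : GT p) * c'⁻¹ = c' * R 0 0 := by simp [p.ev]
  have b : (R 0 0 : GT p) * d' = d'⁻¹ * R 0 0 := by simp [p.ev]
  obtain ⟨g, e⟩ := e
  rcases hx with rfl | rfl <;> rcases hy with rfl | rfl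
  · exact not_cd h ⟨_, e⟩
  · exact not_cd h ⟨_, (Cj.of' b).comp e⟩
  · exact not_cd h ⟨_, e.comp (Cj.of' a)⟩
  · exact not_cd h ⟨_, ((Cj.of' b).comp e).comp (Cj.of' a)⟩

omit [Finite G] in
theorem sq_of (e : Dz φ x y) (xx : x * x = 1) (x1 : x ≠ 1) : y * y = 1 ∧ y ≠ 1 :=
  let ⟨g, e⟩ := e
  ⟨tr h.inj (e.mul e) (Cj.one g) xx, mt (eq_iff h.inj e (Cj.one g)).2 x1⟩

section
variable (h2 : ∀ H : Subgroup G, H.index ≠ 2)
include h2

theorem thom (χ : GT p →* ℤˣ) (xx : x * x = 1) (e : χ x ≠ 1) : ∃ c, χ c = 1 ∧ Dz φ x c := by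
  by_contra k
  obtain ⟨N, i, -⟩ := h.thompson χ xx e fun c hc d => k ⟨c, hc, d⟩
  exact h2 N i

variable (hu : Dz φ u z)
include hu

omit h [Finite G] h2 in
theorem dz_A {a b : p.R} (xx : A a b * A a b = 1) (x1 : A a b ≠ 1) : Dz φ (A a b) z := by
  rcases cls_A xx x1 with e | e | e <;> rw [e]
  exacts [dz_z, hu, let ⟨_, k⟩ := hu; ⟨_, (Cj.of' su).comp k⟩]

theorem two_cls (xx : x * x = 1) (x1 : x ≠ 1) : Dz φ x z ∨ Dz φ x (S 0 0) := by
  have f : ∀ {x : GT p}, x * x = 1 → x ≠ 1 → χe x = 1 → Dz φ x z ∨ Dz φ x (S 0 0) := by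
    rintro ⟨a, b, _ | _, _ | _⟩ xx x1 e
    · exact .inl (dz_A hu xx x1)
    · exact .inr ((dz_of (cls_S xx)).1 dz_z)
    all_goals simp [χe] at e
  by_cases e : χe x = 1
  · exact f xx x1 e
  obtain ⟨c, hc, k⟩ := thom h h2 χe xx e
  obtain ⟨g, k'⟩ := id k
  exact (f (sq_of h k xx x1).1 (sq_of h k xx x1).2 hc).imp (fun ⟨_, q⟩ => ⟨_, k'.comp q⟩) fun ⟨_, q⟩ => ⟨_, k'.comp q⟩

theorem one_cls (n3 : 3 ≤ p.n) : Dz φ (S 0 0) z := by
  by_contra n
  have sq : (S 0 0 : GT p) * S 0 0 = 1 := by simp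
  have st : Dz φ (S 0 0) (T 0 0) := by
    obtain ⟨⟨a, b, _ | _, _ | _⟩, hc, k⟩ := thom h h2 (χe * χs) sq (by simp [χe, χs])
    · obtain ⟨_, q⟩ := dz_A hu (sq_of h k sq (by simp)).1 (sq_of h k sq (by simp)).2
      exact absurd (q.dz.1 k) n
    · simp [χe, χs] at hc
    · simp [χe, χs] at hc
    · exact (dz_of (cls_T (sq_of h k sq (by simp)).1)).1 k
  obtain ⟨x, e, sx⟩ := h.ext (S 0 0)
  obtain ⟨xx, x1⟩ := sq_of h e sq (by simp)
  have f : ∀ {y t w : GT p}, Dz φ y x → t * y = y * t → t * t = w → w * w = z → ∃ a b, Dz φ w (A a b) ∧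
      A a b * x = x * A a b ∧ A a b * A a b * (A a b * A a b) = (1 : GT p) ∧ A a b * A a b ≠ (1 : GT p) :=
    fun {y t w} k c e1 e2 => by
      obtain ⟨g, -, l⟩ := h.to_ext sx k
      obtain ⟨d, dx, q⟩ := l t c
      obtain ⟨a, b, r⟩ := sq_A d
      have q' := (q.mul q).cast e1 r
      exact ⟨a, b, ⟨g, q'⟩, by rw [← r, mul_assoc, dx, ← mul_assoc, dx, mul_assoc],
        sq_of h ⟨g, (q'.mul q').cast e2 rfl⟩ zz z1⟩
  have ze := two_mul_ze n3
  obtain ⟨a, b, c1, c2, c3, c4⟩ := f (t := A (Invol.ze p.n) (Invol.ze p.n)) e (by simp) (by simp [← two_mul, ze]) c'_sq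
  obtain ⟨g, st⟩ := st
  obtain ⟨a', b', d1, d2, d3, d4⟩ := f (t := A (-(p.ε * Invol.ze p.n)) (-Invol.ze p.n)) (w := d')
    (let ⟨_, q⟩ := e; ⟨_, st.symm.comp q⟩) (by simp [← mul_assoc, p.ee]) (by
      simp only [mm, GT.mk.injEq, and_true]
      exact ⟨by linear_combination ze - Invol.ze p.n * p.e2, by linear_combination -ze⟩) d'_sq
  obtain ⟨k, l, _ | _, _ | _⟩ := x <;> simp only [mm, GT.mk.injEq, and_true] at c2 d2
  · obtain ⟨_, q⟩ := dz_A hu xx x1
    exact n (q.dz.1 e)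
  · exact not_cd' h ((four_cases d3 d4).1 (by linear_combination d2.1)) (.inl rfl) d1
  · refine c4 ?_
    simp only [mm, eq1, and_true, ← two_mul, p.two_eq]
    exact ⟨p.fix (by linear_combination -c2.1), p.fix (by linear_combination -c2.2)⟩
  · obtain ⟨_, q⟩ := c1
    exact not_cd' h (.inl rfl) ((four_cases c3 c4).2 (.inr (by linear_combination c2.1))) ⟨_, q.symm⟩

end

theorem sylP : Syl 2 ((𝐂₁ u).map φ) (𝐂₁ (φ z) ⊓ 𝐂₁ (φ u)) := by
  have l : φ.range ≤ 𝐂₁ (φ z) := fun _ ⟨a, e⟩ => e ▸ mem_cent1.2 (by rw [← map_mul, zc, map_mul])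
  have n : φ.range ≤ 𝐍 (𝐂₁ (φ z) ⊓ 𝐂₁ (φ u) : Subgroup G) := by
    rintro _ ⟨a, rfl⟩
    refine mem_norm_of_cj_le ?_
    rw [cj_inf, cj_cent1, cj_cent1, show φ a * φ z * (φ a)⁻¹ = φ z from Cj.of' (zc a),
      show φ a * φ u * (φ a)⁻¹ = _ from Cj.of a u]
    have : a * u * a⁻¹ = u ∨ a * u * a⁻¹ * z = u := by
      obtain ⟨a, b, _ | _, _ | _⟩ := a <;> simp [p.ew, ← two_mul, p.w2, ← mul_assoc, p.ee]
    rcases this with q | q
    · rw [q]
    · rintro y ⟨y1, y2⟩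
      refine ⟨y1, mem_cent1.2 ?_⟩
      rw [← q, map_mul, ← mul_assoc, mem_cent1.1 y2, mul_assoc, mem_cent1.1 y1, ← mul_assoc]
  have := (h.syl.of_le n le_top).inf_normal ⟨le_norm_self _, le_rfl⟩
  rwa [← inf_assoc, inf_eq_left.2 l, ← h.cent] at this

theorem toU (hu : Dz φ u z) (e : Dz φ y z) (n : y ≠ z) (c : x * y = y * x) (xx : x * x = z) :
    ∃ g, Cj φ g z z ∧ Cj φ g y u ∧ ∀ c, c * y = y * c → ∃ d, d * u = u * d ∧ Cj φ g c d := by
  obtain ⟨g, k, q⟩ := key h e n c xx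
  obtain ⟨g', k', q'⟩ := key h hu uz (x := c') (by simp [add_comm]) c'_sq
  have e1 := q.comp q'.symm
  have e2 := k.comp k'.symm
  obtain ⟨m, hm, l⟩ := move (sylP h) (g := g'⁻¹ * g) (h.pi (𝐂₁ y)) (by
    rw [← show _ = φ z from e1, ← show _ = φ u from e2, ← cj_cent1, ← cj_cent1, ← cj_inf, h.cent]
    exact cj_mono _ (inf_le_inf_right _ fun _ ⟨a, e⟩ => e ▸ mem_cent1.2 (by rw [← map_mul, zc, map_mul])))
  exact ⟨_, e1.comp (Cj.of_comm (mem_cent1.1 hm.1)), e2.comp (Cj.of_comm (mem_cent1.1 hm.2)), fun c hc =>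
    (l c (mem_cent1.2 hc)).imp fun _ k => ⟨mem_cent1.1 k.1, k.2⟩⟩

omit h [Finite G] in
theorem centU (c : x * u = u * x) : (∃ a b, x = A a b) ∨ ∃ a b, x = R a b := by
  obtain ⟨a, b, _ | _, _ | _⟩ := x
  · exact .inl ⟨a, b, rfl⟩
  · simp [p.w0] at c
  · exact .inr ⟨a, b, rfl⟩
  · simp [p.w0] at c

theorem all_cls (h2 : ∀ H : Subgroup G, H.index ≠ 2) (hu : Dz φ u z) (n3 : 3 ≤ p.n) (xx : x * x = 1) (x1 : x ≠ 1) :
    Dz φ x z := (two_cls h h2 hu xx x1).elim id fun ⟨_, q⟩ => let ⟨_, k⟩ := one_cls h h2 hu n3; ⟨_, q.comp k⟩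

theorem eps (h2 : ∀ H : Subgroup G, H.index ≠ 2) (hu : Dz φ u z) : p.ε = -1 := by
  refine p.hε.elim id fun ⟨n3, he⟩ => False.elim ?_
  have all := fun {x} => all_cls (x := x) h h2 hu n3
  have e1 : 1 + p.ε = p.w := by rw [he]; ring
  have f : ∀ {y t a w : GT p}, y * y = 1 → y ≠ 1 → y ≠ z → t * y = y * t → t * t = z → a * y = y * a →
      R 0 0 * y = y * R 0 0 → a * a * (a * a) ≠ 1 → R 0 0 * a ≠ a * R 0 0 → R 0 0 * a * y = w → w * w = z →
      Dz φ (R 1 1) w := fun {y t a w} yy y1 yz c tt ca cr a4 ra e ww => by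
    obtain ⟨g, gz, gy, l⟩ := toU h hu (all yy y1) yz c tt
    obtain ⟨a', c1, k1⟩ := l a ca
    obtain ⟨r', c2, k2⟩ := l _ cr
    obtain ⟨α, β, rfl⟩ | ⟨α, β, rfl⟩ := centU c1
    swap
    · refine absurd ((eq_iff h.inj ((k1.mul k1).mul (k1.mul k1)) (Cj.one g)).2 ?_) a4
      simp only [mm, eq1, and_true]
      exact ⟨by linear_combination α * p.e2, by linear_combination β * p.e2⟩
    obtain ⟨γ, δ, rfl⟩ | ⟨γ, δ, rfl⟩ := centU c2
    · exact absurd ((eq_iff h.inj (k2.mul k1) (k1.mul k2)).2 (by simp [add_comm])) ra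
    have q := ((k2.mul k1).mul gy).cast e rfl
    have q2 := tr h.inj (q.mul q) gz ww
    simp only [mm, GT.mk.injEq, and_true] at q q2
    have o : ∀ t : p.R, t + p.ε * t = p.w → p.par (t - 1) = 0 := fun t e => by
      rcases zh_mul_cases p.h1 t with ⟨c, -, k⟩ | ⟨c, rfl, -⟩
      · exact absurd (by linear_combination k - e + t * e1) p.w0
      · simpa using p.par_two c
    obtain ⟨_, k⟩ := (dz_of (φ := φ) (z := R 1 1) (conj_R (o _ q2.1) (o _ q2.2))).1 dz_z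
    exact ⟨_, k.comp q.symm⟩
  have n4 : (2 : p.R) * (2 * 1) ≠ 0 := fun this => by
    rcases p.four this (by simpa using p.two0) with q | q
    · exact p.odd (ze p.n) 0 (by linear_combination two_mul_ze n3 - q)
    · exact p.odd (-ze p.n) 0 (by linear_combination -two_mul_ze n3 - q)
  have ne : p.ε ≠ 1 := fun e => n4 (by linear_combination p.e2 - 2 * e)
  have f1 := f (y := S 0 0) (t := c') (a := A 1 1) (w := T p.ε p.ε) (by simp) (by simp) (by simp) (by simp) c'_sq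
    (by simp) (by simp) (fun e => n4 (by simp only [mm, eq1] at e; linear_combination e.1)) (by simp [ne])
    (by simp) (by simp [p.ee, add_comm, ← e1])
  have f2 := f (y := T 0 0) (t := d') (a := A p.ε 1) (w := S 1 p.ε) (by simp) (by simp) (by simp) (by simp [p.ev]) d'_sq
    (by simp [p.ee]) (by simp) (fun e => n4 (by simp only [mm, eq1] at e; linear_combination e.2.1))
    (by simp [ne]) (by simp [p.ee]) (by simp [add_comm, ← e1])
  replace f1 := (dz_of (b := T p.w 0) ⟨A (p.w - p.ε) 0, by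
    simp only [mm, GT.mk.injEq, and_true]; exact ⟨by ring, by linear_combination e1 - p.ew + p.ee⟩⟩).1 f1
  replace f2 := (dz_of (b := S p.w 0) ⟨A p.ε 0, by
    simp [add_comm, ← e1]⟩).1 f2
  obtain ⟨g, gz, gy, l⟩ := toU h hu (all (x := R 0 0) (by simp) (by simp)) (by simp) (x := S p.w 0)
    (by simp [p.ew]) (by simp)
  obtain ⟨a, c1, k1⟩ := l u (by simp [p.ew])
  obtain ⟨b, c2, k2⟩ := l (S 0 0) (by simp)
  have nc : a * b ≠ b * a := mt (eq_iff h.inj (k1.mul k2) (k2.mul k1)).2 (by simp [p.w0])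
  have a2 := tr h.inj (k1.mul k1) (Cj.one g) (by simp [← two_mul, p.w2])
  have b2 := tr h.inj (k2.mul k2) (Cj.one g) (by simp)
  have cA : ∀ {α β : p.R} {b : GT p}, A α β * A α β = 1 → b * u = u * b → A α β * b = b * A α β :=
    fun {α β b} a2 c2 => by
      simp only [mm, eq1, ← two_mul, p.two_eq] at a2
      obtain ⟨γ, δ, rfl⟩ | ⟨γ, δ, rfl⟩ := centU c2 <;> obtain ⟨rfl | rfl, rfl | rfl, -⟩ := a2 <;>
        simp [p.ew, add_comm]
  obtain ⟨α, β, rfl⟩ | ⟨α, β, rfl⟩ := centU c1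
  · exact nc (cA a2 c2)
  obtain ⟨γ, δ, rfl⟩ | ⟨γ, δ, rfl⟩ := centU c2
  · exact nc (cA b2 c1).symm
  have q1 := (k1.mul k2).cast (show _ = S p.w 0 by simp) (mm.2.2.2.2.2.1 _ _ _ _)
  have q2 := (q1.mul gy).cast (show _ = T p.w 0 by simp) (mm.1 _ _ _ _)
  have q3 := tr h.inj (q1.mul q1) gz (by simp)
  obtain ⟨g1, f1⟩ := f1
  obtain ⟨g2, f2⟩ := f2
  have q4 := ((q1.symm.comp f2.symm).comp f1).comp q2
  simp only [mm, GT.mk.injEq, and_true, ← two_mul, p.two_eq_w] at q3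
  have vw : p.v + p.w = -p.v := by linear_combination p.v2 + p.w2
  have vw' : -p.v + p.w = p.v := by linear_combination -p.v2
  obtain ⟨r | r, r' | r'⟩ := q3 <;> rw [r, r'] at q4 <;> simp only [vw, vw', add_zero] at q4
  · exact not_cd' h (.inl rfl) (.inr (by simp)) ⟨_, q4.symm⟩
  · exact not_cd' h (.inr (by simp)) (.inl rfl) ⟨_, q4⟩
  · exact not_cd' h (.inl rfl) (.inr (by simp)) ⟨_, q4⟩
  · exact not_cd' h (.inr (by simp)) (.inl rfl) ⟨_, q4.symm⟩

end CF.N8
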