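/-
Sylow two-subgroups without normal elementary abelian subgroups of order eight and with a fused normal four-group:
the case of a normal subgroup of type `(4, 4)`; the type `G₂(q)`.
-/
import Cfsg.Agent.N8.A
import Cfsg.Agent.N8.F
set_option autoImplicit false
set_option linter.unusedSectionVars false

namespace CF.N8
open Subgroup Cfsg CF.BG CF.Sig CF.GW CF.Ab2 CF.MW CF.NC CF.Invol
open CF.SR (inv_zp pow2_succ)
open CF.W2 (SM Dz)
open scoped commutatorElement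

variable {G : Type*} [Group G] [Finite G]
variable {E K M N P Q R S T U V W X Y : Subgroup G} {a b c d f g h k r s t u v w x y z : G}

namespace ST
variable (H : ST S P U z u h)
include H

theorem nYS : YY P U ⊴ S :=
  ⟨(YY_le H.nUP).trans H.PS, fun _ hs => norm_YY H.nUP (H.nPS.norm hs) (H.nUS.norm hs)⟩

theorem nNS : P ⊓ 𝐂 (YY P U) ⊴ S := ⟨inf_le_left.trans H.PS, norm_inf_cent H.nPS.norm H.nYS.norm⟩

theorem dich : P ≤ YY P U ∨ CB P U h ∧ ∃ w ∈ YY P U, w ∉ U := by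
  refine or_iff_not_imp_left.2 fun n => ?_
  obtain ⟨w, hw, m⟩ := SetLike.not_le_iff_exists.1 (mt (le_YY_of H.kP H.UP H.PU fun _ => H.ee) n)
  have sq : ∀ y ∈ YY P U, y * y ∈ U := fun y hy => ((mem_YY H.nUP).1 hy).2.1
  have nZ : 𝐙 (YY P U) ⊴ S := H.nYS.char inf_le_left (norm_center _)
  have UZ : U ≤ 𝐙 (YY P U) := le_inf (le_YY H.nUP) (cent_symm ((YY_le H.nUP).trans H.PU))
  obtain ⟨W, l, M⟩ := exists_m4 H.pi nZ (center_abel _) fun y hy => H.ee (sq y hy.1)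
  have om := fun x => H.memW (x := x) M.n M.a (UZ.trans l)
  have w' : h * w * h⁻¹ ∈ 𝐙 (YY P U) := conj_mem_of_norm (norm_center _ (norm_YY H.nUP H.nhP H.nhU)) hw
  have WZ : W ≤ 𝐙 (YY P U) := fun x hx => by
    have k : ∀ y ∈ 𝐙 (YY P U), x * x = y * y → x ∈ 𝐙 (YY P U) := fun y hy e =>
      (mul_mem_cancel_right hy).1 (UZ (om _ (mul_mem hx (l hy)) (by
        rw [sq_mul, comm_eq_one (M.a.mul_comm (l hy) hx), e]; simpa using H.ee (sq y hy.1))))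
    rcases H.ca.cs (sq w hw.1) (fun j => m (om w (l hw) j)) (om _ (mul_mem hx hx) (M.e x hx)) with j | j | j | j
    exacts [UZ (om x hx j), k w hw j, k _ w' (j.trans (conj_sq' h w)), k _ (mul_mem hw w') (j.trans (by
      rw [sq_mul, comm_eq_one (M.a.mul_comm (l w') (l hw)), conj_sq']; simp))]
  have YW : YY P U ≤ W := fun y hy => M.m y (H.nYS.le hy) (cent_symm (WZ.trans inf_le_right) hy) (H.ee (sq y hy))
  refine ⟨⟨⟨H.kP, fun E n e => ?_, H.UP, H.PU, fun _ => H.ee, H.c4, H.nhP, H.nhU, H.o, H.nc⟩, M.a.mono YW⟩, w, hw.1, m⟩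
  by_contra f
  obtain ⟨y, hy, my, j⟩ := exists_lift H.kP (H.nUP.sup n) H.nUP le_sup_left fun j =>
    f ((card_le (le_sup_right.trans j)).trans H.c4.le)
  obtain ⟨a, ha, b, hb, rfl⟩ := (mem_sup_norm' (n.le.trans H.nUP.norm)).1 hy
  exact my (om _ (YW j) (by rw [← H.cm (n.le hb) ha, sq_mul_cent (H.PU (n.le hb)) (fun _ => H.ee) ha, e b hb]))

end ST

/-- a subgroup of index two in the centralizer of the four-group -/
structure SQ (S P U Q : Subgroup G) (z u h r : G) : Prop extends ST S P U z u h where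
  B : CB P U h
  ew : ∃ w ∈ YY P U, w ∉ U
  nQ : Q ⊴ S
  YQ : YY P U ≤ Q
  QP : Q ≤ P
  rP : r ∈ P
  rQ : r ∉ Q
  rr : r * r = 1
  rh : r ∈ 𝐂₁ h
  ix : ∀ x ∈ P, x ∈ Q ∨ r * x ∈ Q
  fx : ∀ x ∈ Q, x ∈ 𝐂₁ h → x = 1
  ri : ∀ y ∈ YY P U, ⁅y, r⁆ = y * y

namespace SQ
variable (H : SQ S P U Q z u h r)
include H

theorem ir : Iv r := .mk' (fun e => H.rQ (e ▸ one_mem Q)) H.rr
theorem UQ : U ≤ Q := (le_YY H.nUP).trans H.YQ
theorem ri' (hy : y ∈ YY P U) : r * y * r⁻¹ = y⁻¹ := by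
  have := H.ri y hy
  rw [commutatorElement_def, mul_assoc, mul_assoc, mul_right_inj, ← mul_assoc] at this
  simpa using conj_inv' this
theorem fix2 (hx : x ∈ P) (c : x ∈ 𝐂₁ h) : x = 1 ∨ x = r := (H.ix x hx).imp (H.fx x · c) fun j => by
  rw [eq_inv_of_mul_eq_one_right (H.fx _ j (mul_mem H.rh c)), H.ir.inv_eq]
theorem two (hx : x ∈ P) (hy : y ∈ P) (mx : x ∉ Q) (my : y ∉ Q) : x * y ∈ Q := by
  have := mul_mem (H.nQ.conj_mem' (H.PS H.rP) ((H.ix x hx).resolve_left mx)) ((H.ix y hy).resolve_left my)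
  rwa [show r⁻¹ * (r * x) * r * (r * y) = x * (r * r) * y by group, H.rr, mul_one] at this
theorem rt (hw : w ∈ U) : ∃ y ∈ YY P U, y * y = w := let ⟨_, a, b⟩ := H.ew; H.B.exists_root a b hw

theorem kill (h2 : ∀ H : Subgroup G, H.index ≠ 2) (om : ∀ x ∈ Q, x * x = 1 → x ∈ U) (hs : s ∈ S) (c : s * r = r * s)
    (l : ∀ x ∈ S, x ∈ P ∨ s * x ∈ P ∧ s * s = r) : False := by
  have mr : r ∈ Q ⊔ closure {r, s} := mem_sup_right (subset_closure (by simp))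
  have ms : s ∈ Q ⊔ closure {r, s} := mem_sup_right (subset_closure (by simp))
  have lP : ∀ x ∈ P, x ∈ Q ⊔ closure {r, s} := fun x hx =>
    (H.ix x hx).elim mem_sup_left fun j => (mul_mem_cancel_left mr).1 (mem_sup_left j)
  refine H.kill4 h2 (comm_le_of (X := {r, s}) H.nQ ?_ (fun x hx => (l x hx).elim (lP x) fun j =>
    (mul_mem_cancel_left ms).1 (lP _ j.1)) ?_) H.UQ om H.ir H.rP H.rQ H.ix (fun x hx j => ?_) fun w hw => ?_
  · rintro _ (rfl | rfl)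
    exacts [H.PS H.rP, hs]
  · rintro _ (rfl | rfl) _ (rfl | rfl) <;> rw [comm_eq_one (by simp [c])] <;> exact one_mem _
  · refine (l x hx).elim id fun ⟨m, e⟩ => absurd ?_ H.rQ
    have k : s * (s * x) * s⁻¹ * (s * x) ∈ Q := by
      by_cases q : s * x ∈ Q
      · exact mul_mem (H.nQ.conj_mem hs q) q
      · exact H.two (H.nPS.conj_mem hs m) m (fun f => q (by simpa [mul_assoc] using H.nQ.conj_mem' hs f)) q
    rwa [show s * (s * x) * s⁻¹ * (s * x) = s * s * (x * x) by group, mul_mem_cancel_right j, e] at k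
  · obtain ⟨y, hy, e⟩ := H.rt hw
    exact ⟨y, YY_le H.nUP hy, e, H.ri' hy⟩

variable (e : s * u * s⁻¹ = z * u) (hs : s ∈ S) (sh : s * h * s⁻¹ = h⁻¹)
include hs sh
theorem sr : s * r = r * s := by
  have : s * r * s⁻¹ ∈ 𝐂₁ h⁻¹ := sh ▸ cj_cent1 s h ▸ conj_mem_cj.2 H.rh
  exact mul_of_conj ((H.fix2 (H.nPS.conj_mem hs H.rP)
    (mem_cent1_comm.1 (inv_mem_iff.1 (mem_cent1_comm.1 this)))).resolve_left (H.ir.conj s).ne_one)
theorem s2 : s * s = 1 ∨ s * s = r := H.fix2 (H.mP.2 ⟨mul_mem hs hs, H.sqP hs⟩)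
  (mem_cent1.2 (mul_of_conj (conj_conj sh (by rw [conj_inv' sh, inv_inv]))))
include e
theorem ss1 (h2 : ∀ H : Subgroup G, H.index ≠ 2) (om : ∀ x ∈ Q, x * x = 1 → x ∈ U) : s * s = 1 :=
  (H.s2 hs sh).resolve_right fun j => H.kill h2 om hs (H.sr hs sh) fun x hx => (H.idx e hs hx).imp_right (⟨·, j⟩)
end SQ

theorem ST.sqN (H : ST S P U z u h) (B : CB P U h) (hw : w ∈ YY P U) (m : w ∉ U)
    (l : ¬ P ⊓ 𝐂 (YY P U) ≤ YY P U) : ∃ r, SQ S P U (P ⊓ 𝐂 (YY P U)) z u h r := by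
  obtain ⟨b, hb, mb, hb'⟩ := exists_lift H.kP B.nN (YY_normal H.nUP) B.YN l
  have I := fun x hx mx y hy => B.inv (x := x) (w := y) (fun x hx y hy w hw => B.idem hb
    ((mem_YY (YY_normal H.nUP)).1 hb').2.1 (fun f => mb (B.m4.m b hb.1 hb.2 (H.ee f))) hx hy hw) hx mx hy
  have two : ∀ x ∈ P, ∀ y ∈ P, x ∉ P ⊓ 𝐂 (YY P U) → y ∉ P ⊓ 𝐂 (YY P U) → x * y ∈ P ⊓ 𝐂 (YY P U) :=
    fun x hx y hy mx my => ⟨mul_mem hx hy, fun v hv => comm_of_eq_one (by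
      rw [B.cr hv hx hy, I x hx mx v hv, I y hy my v hv, H.ee (B.sqU hv)])⟩
  obtain ⟨t, ht, i, mt⟩ := H.rk3
  have mt' := mt.imp fun j => (B.ivN j).2 i
  obtain ⟨r, hr, c, e⟩ := fix_coset H.kP B.nN H.nhP B.hN H.o ht (by
    rw [commutatorElement_def, mul_assoc, mul_assoc, ← mul_assoc h]
    exact two _ ht _ (conj_mem_of_norm H.nhP (inv_mem ht)) mt' fun j => mt' (by
      simpa [mul_assoc] using inv_mem (conj_mem_of_norm' B.hN j)))
  have mr : r ∉ P ⊓ 𝐂 (YY P U) := fun f => mt' ((mul_mem_cancel_left (inv_mem f)).1 e)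
  exact ⟨r, H, B, ⟨w, hw, m⟩, H.nNS, B.YN, inf_le_left, hr, mr, B.fixN (B.sqN hr) (mul_mem c c), c,
    fun x hx => or_iff_not_imp_left.2 (two r hr x hx mr), fun _ => B.fixN, I r hr mr⟩

theorem gen2 {n : ℕ} (a : Abel N) (l : K ≤ N) (rt : ∀ v ∈ N, v * v = 1 → ∃ t ∈ K, t ^ 2 ^ n = v) (k : ℕ) :
    ∀ m, k + m = n + 1 → ∀ w ∈ N, w ^ 2 ^ k = 1 → ∃ t ∈ K, w = t ^ 2 ^ m := by
  induction k with
  | zero => exact fun m _ w _ e => ⟨1, one_mem _, by simpa using e⟩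
  | succ k ih =>
    intro m e w hw j
    obtain ⟨t, ht, f⟩ := rt _ (pow_mem hw _) (pow2_succ w k ▸ j)
    have c := a.mul_comm hw (inv_mem (pow_mem (l ht) (2 ^ m)))
    obtain ⟨v, hv, g⟩ := ih (m + 1) (by omega) _ (mul_mem hw (inv_mem (pow_mem (l ht) (2 ^ m)))) (by
      rw [Commute.mul_pow c, inv_pow, ← pow_mul, ← pow_add, show m + k = n by omega, f, mul_inv_cancel])
    refine ⟨v * v * t, mul_mem (mul_mem hv hv) ht, ?_⟩
    rw [Commute.mul_pow (a.mul_comm (l (mul_mem hv hv)) (l ht)), ← pow_two, ← pow_mul, ← pow_succ', ← g,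
      inv_mul_cancel_right]

theorem SQ.typeG (H : SQ S P U (P ⊓ 𝐂 (YY P U)) z u h r) (h2 : ∀ H : Subgroup G, H.index ≠ 2)
    (l : ¬ P ⊓ 𝐂 (YY P U) ≤ YY P U) (e : s * u * s⁻¹ = z * u) (hs : s ∈ S) (sh : s * h * s⁻¹ = h⁻¹) :
    ∃ p : Par, p.ε = -1 ∧ 3 ≤ p.n ∧ ∃ φ : GT p →* G, SM φ ∧ φ.range = S ∧ Dz φ GT.u GT.z ∧ φ GT.z = z := by
  classical
  have B := H.B
  have om := fun x hx => (B.ivN (x := x) hx).2
  have ss := H.ss1 e hs sh h2 om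
  have sr := H.sr hs sh
  obtain ⟨N, hN⟩ : ∃ N, N = P ⊓ 𝐂 (YY P U) := ⟨_, rfl⟩
  have aN := B.abN
  have hN' := B.hN
  have m4 : ∀ x ∈ N, x * x * (x * x) = 1 → x ∈ YY P U := fun x hx => B.m4.m x (hN ▸ hx).1 (hN ▸ hx).2
  rw [← hN] at H l om aN hN'
  have ex : ∃ n, ∀ x ∈ N, x ^ 2 ^ n = 1 := by
    obtain ⟨n, e⟩ := (H.pi.le H.nQ.le).isPGroup.exists_card_eq
    exact ⟨n, fun x hx => e ▸ congrArg Subtype.val (pow_card_eq_one' (x := (⟨x, hx⟩ : N)))⟩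
  obtain ⟨n, hn, n3⟩ : ∃ n, Nat.find ex = n + 1 ∧ 2 ≤ n := by
    refine ⟨Nat.find ex - 1, ?_⟩
    by_contra f
    refine l fun x hx => m4 x hx ?_
    rw [← p4, show 2 ^ 2 = 2 ^ Nat.find ex * 2 ^ (2 - Nat.find ex) by rw [← pow_add]; congr 1; omega, pow_mul,
      Nat.find_spec ex x hx, one_pow]
  have xn : ∀ x ∈ N, x ^ 2 ^ (n + 1) = 1 := hn ▸ Nat.find_spec ex
  have gU : ∀ x ∈ N, x ^ 2 ^ n ∈ U := fun x hx => om _ (pow_mem hx _) (pow2_succ x n ▸ xn x hx)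
  obtain ⟨x0, hx0, g0⟩ : ∃ x ∈ N, x ^ 2 ^ n = z := by
    have := Nat.find_min ex (show n < Nat.find ex by omega)
    push Not at this
    obtain ⟨x, hx, j⟩ := this
    obtain ⟨k, hk, j⟩ := H.toz (gU x hx) j
    refine ⟨k * x * k⁻¹, conj_mem_of_norm ?_ hx, by rw [conj_pow, j]⟩
    rcases hk with rfl | rfl | rfl
    exacts [one_mem _, hN', mul_mem hN' hN']
  obtain ⟨x, hx'⟩ : ∃ x, x = h * x0 * h⁻¹ := ⟨_, rfl⟩
  have hx : x ∈ N := hx' ▸ conj_mem_of_norm hN' hx0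
  have gx : x ^ 2 ^ n = h * z * h⁻¹ := by rw [hx', conj_pow, g0]
  have hy := H.nQ.conj_mem hs hx
  have F := H.ca.fp H.zU H.z1
  have gy : (s * x * s⁻¹) ^ 2 ^ n = z * (h * z * h⁻¹) := by
    rw [conj_pow, gx]
    rcases H.mU'.1 (conj_mem_of_norm H.nhU H.zU) with j | j | j | j
    exacts [absurd j F.r.ne_one, absurd j.symm F.ne, j ▸ e, by rw [j, H.czu hs e, H.zzx]]
  have KN : V4 x (s * x * s⁻¹) ≤ N := V4_le.2 ⟨hx, hy⟩
  have xy := aN.mul_comm hx hy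
  have gxy : x ^ 2 ^ n * (s * x * s⁻¹) ^ 2 ^ n = z := by rw [gx, gy, F.mul_mul']
  have gen := gen2 (n := n) aN KN fun v hv i => by
    rcases H.ca.cs H.zU H.z1 (om v hv i) with j | j | j | j
    exacts [⟨1, one_mem _, by rw [j, one_pow]⟩, ⟨_, mul_mem (left_mem_V4 _ _) (right_mem_V4 _ _), by
      rw [Commute.mul_pow xy, gxy, j]⟩, ⟨_, left_mem_V4 _ _, gx.trans j.symm⟩, ⟨_, right_mem_V4 _ _, gy.trans j.symm⟩]
  have cr := fun x hx => H.nQ.conj_mem (x := x) (H.PS H.rP) hx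
  have fU : ∀ x ∈ N, x * (r * x * r⁻¹) ∈ U := fun x hx => by
    have m := mul_mem hx (cr x hx)
    have c : r * (x * (r * x * r⁻¹)) * r⁻¹ = x * (r * x * r⁻¹) := by
      rw [conj_mul', ← conj_conj (y := r) (x := r) rfl rfl, H.rr, one_mul, inv_one, mul_one, aN.mul_comm hx (cr x hx)]
    refine om _ m (SR.sq_one (H.e2 (H.nQ.le m)) fun d hd j => ?_)
    rw [← H.ri d (m4 d (zpowers_le.2 m hd) j), comm_eq_one (mul_of_conj (SR.fix_zp c hd)).symm]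
  have fm : ∀ x ∈ N, ∀ y ∈ N, x * y * (r * (x * y) * r⁻¹) = x * (r * x * r⁻¹) * (y * (r * y * r⁻¹)) :=
    fun x hx y hy => by rw [conj_mul', mul_assoc x, ← mul_assoc y, aN.mul_comm hy (cr x hx)]; simp only [mul_assoc]
  have fc : ∀ g x : G, g * r = r * g →
      g * (x * (r * x * r⁻¹)) * g⁻¹ = g * x * g⁻¹ * (r * (g * x * g⁻¹) * r⁻¹) := fun g x c => by
    rw [conj_mul', ← conj_conj (y := r) (x := g) rfl rfl, c, conj_conj (y := g) (x := r) rfl rfl]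
  have f0 : x0 * (r * x0 * r⁻¹) = 1 ∨ x0 * (r * x0 * r⁻¹) = z := by
    have h0 := H.nQ.conj_mem hs hx0
    obtain ⟨t, ht, j⟩ := gen n 1 rfl _ (mul_mem h0 (inv_mem hx0)) (by
      rw [Commute.mul_pow (aN.mul_comm h0 (inv_mem hx0)), conj_pow, inv_pow, g0, H.cz hs, mul_inv_cancel])
    refine H.fixs e hs (fU _ hx0) ?_
    rw [fc s x0 sr, eq_mul_of_mul_inv_eq j, pow_one, pow_two, fm _ (mul_mem (KN ht) (KN ht)) _ hx0,
      fm _ (KN ht) _ (KN ht), H.ee (fU _ (KN ht)), one_mul]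
  have f1 : x * (r * x * r⁻¹) = 1 ∨ x * (r * x * r⁻¹) = x ^ 2 ^ n := by
    rw [gx, hx', ← fc h x0 (mem_cent1.1 H.rh).symm]
    exact f0.imp (fun j => by rw [j]; simp) fun j => by rw [j]
  have zw : ∀ x ∈ N, zmodPow x (zh (n + 1)) = x ^ 2 ^ n := fun x hx => by
    rw [zh, ← Int.cast_natCast, zmodPow_intCast (xn x hx), zpow_natCast, Nat.add_sub_cancel]
  have zm : zmodPow x (-1 : ZMod (2 ^ (n + 1))) = x⁻¹ := by simpa using zmodPow_intCast (xn x hx) (-1)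
  obtain ⟨p, hp, rx⟩ : ∃ p : Par, p.n = n + 1 ∧ r * x * r⁻¹ = zmodPow x p.ε := by
    rcases f1 with j | j
    · exact ⟨⟨n + 1, by omega, -1, .inl rfl⟩, rfl, by rw [eq_inv_of_mul_eq_one_right j, zm]⟩
    · exact ⟨⟨n + 1, by omega, -1 + zh (n + 1), .inr ⟨by omega, rfl⟩⟩, rfl, by
        rw [zmodPow_add (xn x hx), zm, zw x hx, ← j, inv_mul_cancel_left]⟩
  obtain ⟨m, hm, ε, hε⟩ := p
  obtain rfl : m = n + 1 := hp
  obtain ⟨φ, p1, p2, p3⟩ := GT.exists_lift (p := ⟨n + 1, hm, ε, hε⟩) (xn x hx) xy rfl ss H.rr sr.symm rx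
  have o0 : ∀ x ∈ N, zmodPow x (0 : ZMod (2 ^ (n + 1))) = 1 := fun x hx => by simpa using zmodPow_intCast (xn x hx) 0
  have o1 : ∀ x ∈ N, zmodPow x (1 : ZMod (2 ^ (n + 1))) = x := fun x hx => by simpa using zmodPow_intCast (xn x hx) 1
  have pz : φ GT.z = z := by rw [p1, zw x hx, zw _ hy, gxy]
  have rg : φ.range = S := by
    refine le_antisymm ?_ fun g hg => ?_
    · have hA : ∀ a b, φ (GT.A a b) ∈ S := fun a b => p1 a b ▸ H.nQ.le
        (mul_mem (zpowers_le.2 hx (zmodPow_mem_zpowers _ _)) (zpowers_le.2 hy (zmodPow_mem_zpowers _ _)))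
      have hR := p2 ▸ H.PS H.rP
      have hS := p3 ▸ hs
      rintro _ ⟨⟨a, b, _ | _, _ | _⟩, rfl⟩
      · exact hA a b
      · simpa [← map_mul] using mul_mem (hA a b) hS
      · simpa [← map_mul] using mul_mem (hA a b) hR
      · simpa [← map_mul] using mul_mem (hA a b) (mul_mem hR hS)
    · have lN : N ≤ φ.range := fun w hw => by
        obtain ⟨t, ht, j⟩ := gen (n + 1) 0 rfl w hw (xn w hw)
        rw [j, pow_zero, pow_one]
        exact (V4_le (K := φ.range)).2 ⟨⟨GT.A 1 0, by rw [p1, o1 x hx, o0 _ hy, mul_one]⟩,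
          ⟨GT.A 0 1, by rw [p1, o0 x hx, o1 _ hy, one_mul]⟩⟩ ht
      have lP : P ≤ φ.range := fun x hx => (H.ix x hx).elim (fun j => lN j) fun j =>
        (mul_mem_cancel_left (show r ∈ φ.range from ⟨_, p2⟩)).1 (lN j)
      exact (H.idx e hs hg).elim (fun j => lP j) fun j =>
        (mul_mem_cancel_left (show s ∈ φ.range from ⟨_, p3⟩)).1 (lP j)
  have sm : SM φ := ⟨GT.inj_of (pz ▸ H.z1), rg ▸ H.hS⟩
  have dz : Dz φ GT.u GT.z := ⟨h⁻¹, show _ = _ by rw [pz, p1, zw x hx, o0 _ hy, mul_one, gx]; group⟩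
  exact ⟨_, eps sm h2 dz, by simp; omega, φ, sm, rg, dz, pz⟩

end CF.N8
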