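/-
Sylow two-subgroups without normal elementary abelian subgroups of order eight and with a fused normal four-group:
the case of a self-centralizing normal subgroup of type `(4, 4)`.
-/
import Cfsg.Agent.N8.B
import Cfsg.Agent.N8.C
set_option autoImplicit false
set_option linter.unusedSectionVars false

namespace CF.N8
open Subgroup Cfsg CF.BG CF.Sig CF.GW CF.Ab2 CF.MW CF.NC
open scoped commutatorElement

variable {G : Type*} [Group G] [Finite G]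
variable {E K M N P Q R S T U V W X Y : Subgroup G} {a b c d f g h k p q r s t u v w x y z : G}

theorem fixc (k : P2 T) (n : N ⊴ T) (a : h ∈ 𝐍 T) (o : Eo h) (c : N ≤ 𝐂₁ h) (e : ∀ x ∈ T, ⁅x, h⁆ ∈ N) : T ≤ 𝐂₁ h :=
  fun x hx => let ⟨_, _, i, j⟩ := fix_coset k n a (cent_le_norm N (le_cent1_iff.1 c)) o hx (e x hx)
    (mul_mem_cancel_left (inv_mem i)).1 (c j)

/-- the norm -/
def nu (h x : G) : G := x * (h * x * h⁻¹) * (h * (h * x * h⁻¹) * h⁻¹)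

section
variable (B : CB P U h)
include B

theorem nu_mem (hx : x ∈ P) : nu h x ∈ P :=
  mul_mem (mul_mem hx (conj_mem_of_norm B.hT hx)) (conj_mem_of_norm B.hT (conj_mem_of_norm B.hT hx))

theorem c_nu (hy : y ∈ YY P U) (hx : x ∈ P) :
    ⁅y, nu h x⁆ = ⁅y, x⁆ * ⁅y, h * x * h⁻¹⁆ * ⁅y, h * (h * x * h⁻¹) * h⁻¹⁆ := by
  have h1 := conj_mem_of_norm B.hT hx
  rw [nu, B.cr hy (mul_mem hx h1) (conj_mem_of_norm B.hT h1), B.cr hy hx h1]

theorem nu_mul (hy : y ∈ YY P U) (hx : x ∈ P) (hp : p ∈ P) : ⁅y, nu h (x * p)⁆ = ⁅y, nu h x⁆ * ⁅y, nu h p⁆ := by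
  have c := fun x hx => conj_mem_of_norm (x := x) B.hT hx
  have m := fun x hx => B.cU (s := x) hy hx
  rw [c_nu B hy (mul_mem hx hp), c_nu B hy hx, c_nu B hy hp, conj_mul' h x, conj_mul' h (h * x * h⁻¹), B.cr hy hx hp,
    B.cr hy (c _ hx) (c _ hp), B.cr hy (c _ (c _ hx)) (c _ (c _ hp)),
    Commute.mul_mul_mul_comm (B.ab.mul_comm (m _ hp) (m _ (c _ hx))),
    Commute.mul_mul_mul_comm (B.ab.mul_comm (mul_mem (m _ hp) (m _ (c _ hp))) (m _ (c _ (c _ hx))))]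

/-- the kernel of the norm -/
def P0 : Subgroup G where
  carrier := {x | x ∈ P ∧ ∀ y ∈ YY P U, ⁅y, nu h x⁆ = 1}
  one_mem' := ⟨one_mem _, by simp [nu]⟩
  mul_mem' := fun a b => ⟨mul_mem a.1 b.1, fun y hy => by rw [nu_mul B hy a.1 b.1, a.2 y hy, b.2 y hy, mul_one]⟩
  inv_mem' := fun a => ⟨inv_mem a.1, fun y hy => by
    have := nu_mul B hy a.1 (inv_mem a.1)
    rw [a.2 y hy, one_mul] at this
    rw [← this]; simp [nu]⟩

theorem cN (hx : x ∈ P) (hp : p ∈ P) : ⁅x, p⁆ ∈ P ⊓ 𝐂 (YY P U) := ⟨SR.comm_mem' hx hp, fun y hy => by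
  have := B.cr hy (SR.comm_mem' hx hp) (mul_mem hp hx)
  rw [show ⁅x, p⁆ * (p * x) = x * p by simp only [commutatorElement_def]; group, B.cr hy hx hp,
    B.cr hy hp hx, B.ab.mul_comm (B.cU hy hx) (B.cU hy hp)] at this
  exact comm_of_eq_one (mul_eq_right.1 this.symm)⟩

theorem all_of (hx : x ∈ P) (ha : a ∈ YY P U) (hb : b ∈ YY P U) (F : FP (a * a) (b * b)) (e1 : ⁅a, x⁆ = 1)
    (e2 : ⁅b, x⁆ = 1) : x ∈ P ⊓ 𝐂 (YY P U) := ⟨hx, fun y hy => comm_of_eq_one (by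
  rcases F.mem.1 (v4_eq B.c F (B.sqU ha) (B.sqU hb) ▸ B.sqU hy) with j | j | j | j
  exacts [B.cu (B.iv hy j) hx, (B.ceq hy ha j hx).trans e1, (B.ceq hy hb j hx).trans e2,
    by rw [B.ceq hy (mul_mem ha hb) (j.trans (B.sqm ha hb).symm) hx, B.cl ha hb hx, e1, e2, mul_one]])⟩

variable (l : P ⊓ 𝐂 (YY P U) ≤ YY P U)
include l

theorem cube : P ≤ 𝐂₁ (h * h * h) := by
  have o : Eo (h * h * h) := pow_three' h ▸ B.o.pow 3
  have n : ∀ K : Subgroup G, h ∈ 𝐍 K → h * h * h ∈ 𝐍 K := fun K n => mul_mem (mul_mem n n) n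
  have h1 : U ≤ 𝐂₁ (h * h * h) := fun v hv => mem_cent1.2 (mul_of_conj (by
    by_cases v1 : v = 1
    · simp [v1]
    · exact conj_conj rfl (conj_conj (B.rho hv v1) (by rw [conj_mul', B.rho hv v1, (B.fp hv v1).mul_mul'])))).symm
  have h2 : YY P U ≤ 𝐂₁ (h * h * h) := fixc (B.k.le (YY_le B.n)) (B.n.of_le (le_YY B.n) (YY_le B.n)) (n _ B.hY) o h1
    fun y hy => by
      have y' := conj_mem_of_norm (n _ B.hY) (inv_mem hy)
      rw [commutatorElement_def, mul_assoc, mul_assoc, ← mul_assoc (h * h * h)]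
      refine B.iv (mul_mem hy y') ?_
      rw [B.sqm hy y', ← conj_sq', ← mul_inv_rev, conj_of_mul (mem_cent1.1 (inv_mem (h1 (B.sqU hy)))).symm,
        mul_inv_cancel]
  refine fixc B.k (YY_normal B.n) (n _ B.hT) o h2 fun x hx => l ?_
  have x' := conj_mem_of_norm (n _ B.hT) (inv_mem hx)
  rw [commutatorElement_def, mul_assoc, mul_assoc, ← mul_assoc (h * h * h)]
  refine ⟨mul_mem hx x', fun y hy => comm_of_eq_one ?_⟩
  have := conj_comm (h * h * h) y x⁻¹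
  rw [conj_of_mul (mem_cent1.1 (h2 hy)).symm, conj_of_mul (mem_cent1.1 (h1 (B.cU hy (inv_mem hx)))).symm] at this
  rw [B.cr hy hx x', ← this, ← B.cr hy hx (inv_mem hx), mul_inv_cancel, commutatorElement_one_right]

theorem cube' (hx : x ∈ P) : h * (h * (h * x * h⁻¹) * h⁻¹) * h⁻¹ = x :=
  (conj_conj rfl (conj_conj rfl rfl)).symm.trans (conj_of_mul (mem_cent1.1 (cube B l hx)).symm)

theorem f4 (hx : x ∈ P0 B) (m : x ∉ YY P U) (hy : y ∈ YY P U) (e : ⁅y, x⁆ = 1) : y ∈ U := by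
  by_contra my
  have y1 := conj_mem_of_norm B.hY hy
  have y2 := conj_mem_of_norm B.hY y1
  have a1 : y * y ≠ 1 := fun j => my (B.iv hy j)
  have k : ⁅h * (h * y * h⁻¹) * h⁻¹, x⁆ = ⁅h * y * h⁻¹, x⁆ := by
    rw [B.ceq y2 (mul_mem hy y1) (by rw [← conj_sq', ← conj_sq', B.rho (B.sqU hy) a1, B.sqm hy y1, conj_sq']) hx.1,
      B.cl hy y1 hx.1, e, one_mul]
  have j := hx.2 y hy
  rw [c_nu B hy hx.1, e, one_mul] at j
  nth_rw 1 [← cube' B l (YY_le B.n hy)] at j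
  nth_rw 2 [← cube' B l (YY_le B.n hy)] at j
  rw [← conj_comm, ← conj_comm, ← conj_comm, k] at j
  refine m (l (B.memN hy my hx.1 e (by_contra fun a => a ?_)))
  rwa [B.rho (B.cU y1 hx.1) a, (B.fp (B.cU y1 hx.1) a).mul_mul'] at j

theorem sq0 (hx : x ∈ P0 B) : x * x ∈ U := by
  by_cases m : x ∈ YY P U
  exacts [B.sqU m, f4 B l hx m (l (B.sqN hx.1)) (comm_eq_one (mul_assoc x x x))]

theorem cm0 (hx : x ∈ P0 B) (hp : p ∈ P0 B) : ⁅x, p⁆ ∈ U := by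
  have := sq0 B l (mul_mem hp hx)
  rw [sq_mul, mul_mem_cancel_right (sq0 B l hx), mul_mem_cancel_right (sq0 B l hp)] at this
  simpa [mul_assoc] using B.n.conj_mem' hp.1 this

omit l in
theorem Y0 : YY P U ≤ P0 B := fun x hx => ⟨YY_le B.n hx, fun y hy => comm_eq_one (B.a.mul_comm hy
  (mul_mem (mul_mem hx (conj_mem_of_norm B.hY hx)) (conj_mem_of_norm B.hY (conj_mem_of_norm B.hY hx))))⟩

theorem h0 : h ∈ 𝐍 (P0 B) := mem_norm_of_cj_le fun x' hx' => by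
  obtain ⟨x, hx, rfl⟩ := mem_cj_iff.1 hx'
  refine ⟨conj_mem_of_norm B.hT hx.1, fun y hy => ?_⟩
  rw [← cube' B l (YY_le B.n hy), nu, ← conj_mul', ← conj_mul', ← conj_comm, ← nu,
    hx.2 _ (conj_mem_of_norm B.hY (conj_mem_of_norm B.hY hy))]
  simp

theorem nuY (hx : x ∈ P0 B) : nu h x ∈ YY P U := l ⟨nu_mem B hx.1, fun y hy => comm_of_eq_one (hx.2 y hy)⟩

theorem gen0 (hw : w ∈ YY P U) (mw : w ∉ U) (hx : x ∈ P0 B) (m : x ∉ YY P U) :
    P0 B ≤ YY P U ⊔ V4 x (h * x * h⁻¹) := fun p hp => by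
  have x1 := conj_mem_of_norm (h0 B l) hx
  have nc : ∀ x, x ∉ YY P U → h * x * h⁻¹ ∉ YY P U := fun x m j =>
    m (by simpa [mul_assoc] using conj_mem_of_norm' B.hY j)
  have k : ∀ x ∈ P0 B, x ∉ YY P U → ⁅w, x⁆ ≠ 1 := fun x hx m j => mw (f4 B l hx m hw j)
  have a := B.cU hw hx.1
  have b := B.cU hw x1.1
  have F := fp_of B.e a b (k x hx m) (k _ x1 (nc x m)) fun j => k _ (mul_mem hx x1)
    (fun i => nc _ (nc x m) ((mul_mem_cancel_left i).1 (nuY B l hx))) (by rw [B.cr hw hx.1 x1.1, ← j, B.e _ a])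
  have k' : ∀ q ∈ V4 x (h * x * h⁻¹), ⁅w, p⁆ = ⁅w, q⁆ → p ∈ YY P U ⊔ V4 x (h * x * h⁻¹) := fun q hq j => by
    have hq' := V4_le.2 ⟨hx, x1⟩ hq
    refine (mul_mem_cancel_left (mem_sup_right hq)).1 (mem_sup_left (by_contra fun i => k _ (mul_mem hq' hp) i ?_))
    rw [B.cr hw hq'.1 hp.1, j, B.e _ (B.cU hw hq'.1)]
  rcases F.mem.1 (v4_eq B.c F a b ▸ B.cU hw hp.1) with j | j | j | j
  exacts [k' 1 (one_mem _) (by simpa using j), k' _ (left_mem_V4 _ _) j, k' _ (right_mem_V4 _ _) j,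
    k' _ (mul_mem (left_mem_V4 _ _) (right_mem_V4 _ _)) (j.trans (B.cr hw hx.1 x1.1).symm)]

theorem rinv (hr : r ∈ P) (c : r ∈ 𝐂₁ h) (r1 : r ≠ 1) : r * r = 1 ∧ ∀ y ∈ YY P U, ⁅y, r⁆ = y * y := by
  have rr := B.fixN (B.sqN hr) (mul_mem c c)
  refine ⟨rr, ?_⟩
  obtain ⟨x, hx, m⟩ : ∃ x ∈ P, ⁅x, r⁆ ∉ U := by
    by_contra! f
    exact r1 (B.fixN (B.YN ((mem_YY B.n).2 ⟨hr, rr ▸ one_mem U, fun x hx => by
      rw [← commutatorElement_inv]; exact inv_mem (f x hx)⟩)) c)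
  have hy := l (cN B hx hr)
  have e : ⁅⁅x, r⁆, r⁆ = ⁅x, r⁆ * ⁅x, r⁆ := by
    have i := inv_eq_of_sq rr
    simp only [commutatorElement_def, mul_inv_rev, inv_inv, i, mul_assoc]
    simp only [← mul_assoc r r, rr, one_mul, mul_one]
  generalize ⁅x, r⁆ = w at hy m e
  have w1 := conj_mem_of_norm B.hY hy
  have e' : ⁅h * w * h⁻¹, r⁆ = h * w * h⁻¹ * (h * w * h⁻¹) := by
    rw [← conj_sq', ← e, conj_comm, conj_of_mul (mem_cent1.1 c).symm]
  intro y hy'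
  rcases B.root hy m (B.sqU hy') with j | j | j | j
  exacts [by rw [B.cu (B.iv hy' j) hr, j], by rw [B.ceq hy' hy j hr, j, e], by rw [B.ceq hy' w1 j hr, j, e'],
    by rw [B.ceq hy' (mul_mem hy w1) j hr, j, B.cl hy w1 hr, B.sqm hy w1, e, e']]

end

/-- the self-centralizing case -/
structure SP (S P U Q : Subgroup G) (z u h r : G) : Prop extends SQ S P U Q z u h r where
  l : P ⊓ 𝐂 (YY P U) ≤ YY P U
  hQ : Q = P0 B

theorem ST.sp (H : ST S P U z u h) (B : CB P U h) (hw : w ∈ YY P U) (m : w ∉ U) (l : P ⊓ 𝐂 (YY P U) ≤ YY P U)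
    (hs : S ≤ P ∨ ∃ s ∈ S, s * u * s⁻¹ = z * u ∧ s * h * s⁻¹ = h⁻¹) : ∃ r, SP S P U (P0 B) z u h r := by
  have w1 : w * w ≠ 1 := fun j => m (B.iv hw j)
  have key : ∀ x ∈ P, x ∉ P0 B → ∃ r ∈ P, r ∈ 𝐂₁ h ∧ r ≠ 1 ∧ ∀ y ∈ YY P U, ⁅y, nu h x⁆ = y * y := fun x hx mx => by
    have x1 := conj_mem_of_norm B.hT hx
    obtain ⟨r, hr, c, j⟩ := fix_coset B.k B.nN B.hT B.hN B.o (nu_mem B hx) (by
      rw [commutatorElement_def, mul_assoc, mul_assoc, ← mul_assoc h, conj_inv' (b := h * x * h⁻¹ *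
        (h * (h * x * h⁻¹) * h⁻¹) * x) (by rw [nu, conj_mul', conj_mul', cube' B l hx]), nu,
        show ∀ a b : G, x * a * b * (a * b * x)⁻¹ = ⁅x, a * b⁆ from fun a b => by
          simp only [commutatorElement_def]; group]
      exact cN B hx (mul_mem x1 (conj_mem_of_norm B.hT x1)))
    have k : ∀ y ∈ YY P U, ⁅y, nu h x⁆ = ⁅y, r⁆ := fun y hy => by
      rw [← mul_inv_cancel_left r (nu h x), B.cr hy hr j.1, comm_eq_one (j.2 y hy), mul_one]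
    have r1 : r ≠ 1 := fun i => mx ⟨hx, fun y hy => by simp [k y hy, i]⟩
    exact ⟨r, hr, c, r1, fun y hy => (k y hy).trans ((rinv B l hr c r1).2 y hy)⟩
  have nr : ∀ r ∈ P, r ∈ 𝐂₁ h → r ≠ 1 → ∀ y ∈ YY P U, ⁅y, nu h r⁆ = y * y := fun r hr c r1 y hy => by
    obtain ⟨rr, ri⟩ := rinv B l hr c r1
    have := conj_of_mul (mem_cent1.1 c).symm
    rw [nu, this, this, rr, one_mul, ri y hy]
  obtain ⟨x, hx, mx⟩ : ∃ x ∈ P, x ∉ P0 B := by
    by_contra! f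
    obtain ⟨t, ht, i, j⟩ := H.rk3
    exact j (B.iv ((mem_YY B.n).2 ⟨ht, i ▸ one_mem U, fun s hs => cm0 B l (f t ht) (f s hs)⟩) i)
  obtain ⟨r, hr, c, r1, -⟩ := key x hx mx
  have nP : P0 B ⊴ P := normal_of_comm (Y0 B) (fun _ j => j.1) fun x hx y hy => l (cN B hx.1 hy)
  refine ⟨r, ⟨H, B, ⟨w, hw, m⟩, ⟨fun _ j => H.PS j.1, fun g hg => ?_⟩, Y0 B, nP.le, hr,
    fun j => w1 ((nr r hr c r1 w hw).symm.trans (j.2 w hw)), (rinv B l hr c r1).1, c,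
    fun x hx => or_iff_not_imp_left.2 fun mx => ⟨mul_mem hr hx, fun y hy => ?_⟩,
    fun x hx c => by_contra fun x1 => w1 ((nr x hx.1 c x1 w hw).symm.trans (hx.2 w hw)), (rinv B l hr c r1).2⟩, l, rfl⟩
  · obtain j | ⟨s, hs, e, sh⟩ := hs
    · exact nP.norm (j hg)
    have ns : s ∈ 𝐍 (P0 B) := mem_norm_of_cj_le fun x' hx' => by
      obtain ⟨x, hx, rfl⟩ := mem_cj_iff.1 hx'
      refine ⟨H.nPS.conj_mem hs hx.1, fun y hy => ?_⟩
      have y' := H.nYS.conj_mem' hs hy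
      have k : ∀ x ∈ P, h * (s * x * s⁻¹) * h⁻¹ = s * (h * (h * x * h⁻¹) * h⁻¹) * s⁻¹ := fun x hx => by
        conv_lhs => rw [← cube' B l hx, conj_mul' s, conj_mul' s, sh, conj_inv' sh]
        group
      have x1 := conj_mem_of_norm B.hT hx.1
      have x2 := conj_mem_of_norm B.hT x1
      have := hx.2 _ y'
      rw [c_nu B y' hx.1, mul_assoc, B.ab.mul_comm (B.cU y' x1) (B.cU y' x2), ← mul_assoc, ← B.cr y' hx.1 x2,
        ← B.cr y' (mul_mem hx.1 x2) x1] at this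
      rw [nu, k x hx.1, k _ x2, cube' B l hx.1, ← conj_mul', ← conj_mul',
        show y = s * (s⁻¹ * y * s) * s⁻¹ by group, ← conj_comm, this]
      simp
    exact (H.idx e hs hg).elim (fun j => nP.norm j) fun j => (mul_mem_cancel_left ns).1 (nP.norm j)
  · obtain ⟨-, -, -, -, k⟩ := key x hx mx
    rw [nu_mul B hy hr hx, nr r hr c r1 y hy, k y hy, B.e _ (B.sqU hy)]

end CF.N8
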