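/-
Sylow two-subgroups without normal elementary abelian subgroups of order eight and with a fused normal four-group:
the type `Ly` and the classification.
-/
import Cfsg.Agent.N8.D
import Cfsg.Agent.W2.JD
set_option autoImplicit false
set_option linter.unusedSectionVars false

namespace CF.N8
open Subgroup Cfsg CF.BG CF.Sig CF.GW CF.Ab2 CF.MW CF.NC
open scoped commutatorElement

variable {G : Type*} [Group G] [Finite G]
variable {E K M N P Q R S T U V W X Y : Subgroup G} {a b c d f g h k p q r s t u v w x y z : G}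

/-- the relations of the Sylow two-subgroup of `Ly` -/
structure LyR (b c s f : G) : Prop extends JR b c s where
  ff : f * f = 1
  fs : f * s = s * f
  fb : f * b = b * f
  fc : f * c * f = b * c

/-- the square of the commutator -/
def dl (r x : G) : G := ⁅x, r⁆ * ⁅x, r⁆

theorem dl_conj (c : g * r = r * g) (x : G) : dl r (g * x * g⁻¹) = g * dl r x * g⁻¹ := by
  rw [dl, dl, conj_sq', conj_comm, conj_of_mul c]

namespace SP
variable (H : SP S P U Q z u h r)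
include H

theorem cY' (hx : x ∈ P) : ⁅x, r⁆ ∈ YY P U := H.l (cN H.B hx H.rP)
theorem f4 (hx : x ∈ Q) (m : x ∉ YY P U) (hy : y ∈ YY P U) (e : ⁅y, x⁆ = 1) : y ∈ U :=
  N8.f4 H.B H.l (H.hQ ▸ hx) m hy e
theorem sq (hx : x ∈ Q) : x * x ∈ U := sq0 H.B H.l (H.hQ ▸ hx)
theorem cm0 (hx : x ∈ Q) (hy : y ∈ Q) : ⁅x, y⁆ ∈ U := N8.cm0 H.B H.l (H.hQ ▸ hx) (H.hQ ▸ hy)
theorem nh : h ∈ 𝐍 Q := H.hQ ▸ h0 H.B H.l
theorem gen (hx : x ∈ Q) (m : x ∉ YY P U) : Q ≤ YY P U ⊔ V4 x (h * x * h⁻¹) :=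
  let ⟨_, a, b⟩ := H.ew; H.hQ ▸ gen0 H.B H.l a b (H.hQ ▸ hx) m
theorem hr : h * r = r * h := (mem_cent1.1 H.rh).symm
theorem nY (m : x ∉ YY P U) : h * x * h⁻¹ ∉ YY P U := fun j =>
  m (by simpa [mul_assoc] using conj_mem_of_norm' H.B.hY j)

theorem exQ : ∃ x ∈ Q, ⁅x, r⁆ ∉ U := by
  by_contra! f
  refine H.rQ (H.YQ ((mem_YY H.nUP).2 ⟨H.rP, H.rr ▸ one_mem U, fun x hx => ?_⟩))
  have : x ∈ Cm H.nUP r := (H.ix x hx).elim (fun j => ⟨hx, f x j⟩) fun j =>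
    (mul_mem_cancel_left (show r ∈ Cm H.nUP r from ⟨H.rP, by simp⟩)).1 ⟨H.QP j, f _ j⟩
  exact H.cs this.2 ▸ this.2

theorem f5 (hx : x ∈ Q) (e : ⁅x, r⁆ ∈ U) : x ∈ YY P U := by
  by_contra m
  obtain ⟨y, hy, j⟩ := H.exQ
  have : YY P U ⊔ V4 x (h * x * h⁻¹) ≤ Cm H.nUP r := sup_le (fun y hy => ⟨YY_le H.nUP hy, H.B.cU hy H.rP⟩)
    (V4_le.2 ⟨⟨H.QP hx, e⟩, conj_mem_of_norm H.nhP (H.QP hx), by
      have := conj_mem_of_norm H.nhU e
      rwa [conj_comm, conj_of_mul H.hr] at this⟩)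
  exact j (this (H.gen hx m hy)).2

theorem dU (hx : x ∈ P) : dl r x ∈ U := H.B.sqU (H.cY' hx)
theorem dY (hx : x ∈ YY P U) : dl r x = 1 := H.ee (H.B.cU hx H.rP)
theorem d1 (hx : x ∈ Q) (e : dl r x = 1) : x ∈ YY P U := H.f5 hx (H.B.iv (H.cY' (H.QP hx)) e)
theorem dm (hx : x ∈ P) (hy : y ∈ P) : dl r (x * y) = dl r x * dl r y := by
  have a := H.cY' hx
  have b := H.cY' hy
  rw [dl, comm_mul_l, H.B.sqm (H.nYS.conj_mem (H.PS hx) b) a, ← conj_sq', H.cp hx (H.B.sqU b)]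
  exact H.ab.mul_comm (H.B.sqU b) (H.B.sqU a)
theorem dY' (hx : x ∈ Q) (hy : y ∈ Q) (e : dl r x = dl r y) : x * y ∈ YY P U :=
  H.d1 (mul_mem hx hy) (by rw [H.dm (H.QP hx) (H.QP hy), e, H.ee (H.dU (H.QP hy))])

theorem sqy (ht : t ∈ P) (hy : y ∈ YY P U) : t * y * (t * y) = t * t ↔ ⁅y, t⁆ = y * y := by
  rw [sq_mul, H.cp ht (H.B.cU hy ht), ← H.cm (mul_mem ht ht) (H.B.cU hy ht), mul_assoc, mul_eq_left,
    mul_eq_one_iff_eq_inv, H.iU (H.B.sqU hy)]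

theorem cyt (ht : t ∈ Q) : ⁅⁅t, r⁆, t⁆ = dl r t := by
  have := H.cp H.rP (H.sq ht)
  rw [conj_sq', show r * t * r⁻¹ = t * (t⁻¹ * ⁅t, r⁆⁻¹ * t) by simp only [commutatorElement_def]; group] at this
  have m := H.nYS.conj_mem' (H.PS (H.QP ht)) (inv_mem (H.cY' (H.QP ht)))
  have e : t⁻¹ * ⁅t, r⁆⁻¹ * t * (t⁻¹ * ⁅t, r⁆⁻¹ * t) = ⁅t, r⁆ * ⁅t, r⁆ := by
    rw [show t⁻¹ * ⁅t, r⁆⁻¹ * t * (t⁻¹ * ⁅t, r⁆⁻¹ * t) = t⁻¹ * (⁅t, r⁆ * ⁅t, r⁆)⁻¹ * t⁻¹⁻¹ by group,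
      H.iU (H.B.sqU (H.cY' (H.QP ht))), H.cp (inv_mem (H.QP ht)) (H.B.sqU (H.cY' (H.QP ht)))]
  rw [← H.B.ceq m (H.cY' (H.QP ht)) e (H.QP ht), (H.sqy (H.QP ht) m).1 this, e, dl]

theorem f6 (ht : t ∈ Q) (m : t ∉ YY P U) (hy : y ∈ YY P U) (e : t * y * (t * y) = t * t) : y ∈ U ∨ y * y = dl r t := by
  by_contra! f
  have p := H.QP ht
  have k : ∀ y ∈ YY P U, ⁅y, t⁆ = y * y → ⁅y, r * t⁆ = 1 := fun y hy e => by
    rw [H.B.cr hy H.rP p, H.ri y hy, e, H.ee (H.B.sqU hy)]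
  exact H.rQ ((mul_mem_cancel_right ht).1 (H.YQ (H.l (all_of H.B (mul_mem H.rP p) hy (H.cY' p)
    (fp_of H.B.e (H.B.sqU hy) (H.dU p) (fun j => f.1 (H.B.iv hy j)) (fun j => m (H.d1 ht j)) f.2)
    (k y hy ((H.sqy p hy).1 e)) (k _ (H.cY' p) (H.cyt ht))))))

theorem toz' (ha : a ∈ Q) (m : a ∉ YY P U) : ∃ k, k * a * k⁻¹ ∈ Q ∧ dl r (k * a * k⁻¹) = z := by
  obtain ⟨k, hk, e⟩ := H.toz (H.dU (H.QP ha)) fun j => m (H.d1 ha j)
  have : k ∈ 𝐍 Q ⊓ 𝐂₁ r := by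
    have : h ∈ 𝐍 Q ⊓ 𝐂₁ r := ⟨H.nh, mem_cent1.2 H.hr⟩
    rcases hk with rfl | rfl | rfl
    exacts [one_mem _, this, mul_mem this this]
  exact ⟨k, conj_mem_of_norm this.1 ha, by rw [dl_conj (mem_cent1.1 this.2), e]⟩

theorem nu1 (ha : a ∈ Q) (i : a * a = 1) : a * (h * a * h⁻¹) = h * (h * a * h⁻¹) * h⁻¹ := by
  have n : nu h a ∈ YY P U := nuY H.B H.l (H.hQ ▸ ha)
  have p := H.QP ha
  have e : h * nu h a * h⁻¹ = a * nu h a * a⁻¹ := by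
    rw [nu, conj_mul', conj_mul', cube' H.B H.l p, inv_eq_of_sq i, ← mul_assoc a, ← mul_assoc a, i, one_mul]
  have n2 : nu h a ∈ U := H.B.iv n (H.B.fix (H.B.sqU n) (by rw [conj_sq', e, ← conj_sq', H.cp p (H.B.sqU n)]))
  have := H.B.fix n2 (e.trans (H.cp p n2))
  rw [eq_inv_of_mul_eq_one_left this, inv_eq_of_sq]
  rw [← conj_sq', ← conj_sq', i]; simp

theorem nu2 (ha : a ∈ Q) (i : a * a = 1) : a * (h * a * h⁻¹) = h * a * h⁻¹ * a := by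
  have j : h * a * h⁻¹ * (h * a * h⁻¹) = 1 := by rw [← conj_sq', i]; simp
  have : a * (h * a * h⁻¹) * (a * (h * a * h⁻¹)) = 1 := by rw [H.nu1 ha i, ← conj_sq', j]; simp
  rw [← inv_eq_of_sq this, mul_inv_rev, inv_eq_of_sq j, inv_eq_of_sq i]

theorem out1 (hx : x ∈ P) (m : x ∉ Q) (e : x * x ∈ U) : r * x ∈ YY P U := by
  have p := (H.ix x hx).resolve_left m
  refine H.f5 p ?_
  rwa [← one_mul (x * x), ← H.rr, show r * r * (x * x) = ⁅r * x, r⁆⁻¹ * (r * x * (r * x)) by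
    simp [commutatorElement_def, mul_assoc], mul_mem_cancel_right (H.sq p), inv_mem_iff] at e

theorem out2 (hx : r * x ∈ YY P U) (hq : q ∈ Q) (c : q * x = x * q) : q ∈ U := by
  have p := H.QP hq
  have e := comm_mul_r q r (r * x)
  nth_rw 1 [← mul_assoc r] at e
  rw [H.rr, one_mul, comm_eq_one c] at e
  have m := H.B.cU hx p
  have m' : ⁅q, r * x⁆ ∈ U := H.cs m ▸ m
  have hy := H.f5 hq (eq_inv_of_mul_eq_one_left e.symm ▸ inv_mem (H.nUP.conj_mem H.rP m'))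
  rw [comm_eq_one (H.B.a.mul_comm hy hx), mul_one, mul_inv_cancel, mul_one, H.ri q hy] at e
  exact H.B.iv hy e.symm

section
variable (e : s * u * s⁻¹ = z * u) (hs : s ∈ S) (sh : s * h * s⁻¹ = h⁻¹)
include e hs sh

omit e in
theorem sY' (ha : a ∈ Q) (d : dl r a = z) : a⁻¹ * (s * a * s⁻¹) ∈ YY P U := by
  have := H.dm (H.QP (inv_mem ha)) (H.QP ha)
  rw [inv_mul_cancel, H.dY (one_mem _), d, eq_comm, mul_eq_one_iff_eq_inv, H.zi] at this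
  exact H.dY' (inv_mem ha) (H.nQ.conj_mem hs ha) (by rw [this, dl_conj (H.sr hs sh), d, H.cz hs])

theorem l1 (ss : s * s = 1) (ha : a ∈ Q) (d : dl r a = z) : a * a = 1 ∨ a * a = z := by
  have hy := H.sY' hs sh ha d
  obtain ⟨y, j⟩ : ∃ y, s * a * s⁻¹ = a * y := ⟨a⁻¹ * (s * a * s⁻¹), by group⟩
  rw [j, inv_mul_cancel_left] at hy
  have k : y * (s * y * s⁻¹) = 1 := by
    have := conj_conj j (conj_two j rfl)
    rwa [ss, one_mul, inv_one, mul_one, mul_assoc, eq_comm, mul_eq_left] at this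
  have y2 := H.fixs e hs (H.B.sqU hy) (by
    rw [conj_sq', eq_inv_of_mul_eq_one_right k, ← mul_inv_rev, H.iU (H.B.sqU hy)])
  refine H.fixs e hs (H.sq ha) ?_
  rw [conj_sq', j, H.sqy (H.QP ha) hy]
  rcases y2 with i | i
  · rw [i, H.B.cu (H.B.iv hy i) (H.QP ha)]
  · rw [H.B.ceq hy (H.cY' (H.QP ha)) (i.trans d.symm) (H.QP ha), H.cyt ha, d, i]

theorem exiv (h2 : ∀ H : Subgroup G, H.index ≠ 2) : ∃ a ∈ Q, a * a = 1 ∧ a ∉ U := by
  by_contra! f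
  have ss := H.ss1 e hs sh h2 f
  obtain ⟨x, hx, m⟩ := H.exQ
  obtain ⟨k, ha, d⟩ := H.toz' hx fun j => m (H.B.cU j H.rP)
  generalize k * x * k⁻¹ = a at ha d
  have nY : ∀ a, dl r a = z → a ∉ YY P U := fun a d j => H.z1 (d.symm.trans (H.dY j))
  have k : ∀ a ∈ Q, dl r a = z → a * a = z := fun a ha d =>
    (H.l1 e hs sh ss ha d).resolve_left fun j => nY a d (le_YY H.nUP (f a ha j))
  obtain ⟨y, hy, j⟩ := H.rt H.uU
  rcases H.f6 ha (nY a d) hy ((k _ (mul_mem ha (H.YQ hy)) (by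
    rw [H.dm (H.QP ha) (YY_le H.nUP hy), d, H.dY hy, mul_one])).trans (k a ha d).symm) with i | i
  exacts [H.f.r.ne_one (j.symm.trans (H.ee i)), H.f.ne (d.symm.trans (i.symm.trans j))]

theorem ly2 (ss : s * s = 1) (hb : b ∈ Q) (bb : b * b = 1) (m : b ∉ YY P U) (sb : s * b = b * s) :
    ∃ b c s f, b ∈ S ∧ c ∈ S ∧ s ∈ S ∧ f ∈ S ∧ LyR b c s f ∧ S ≤ closure {b, c, s, f} ∧ ⁅b, s * b * s⁻¹⁆ = z ∧
      (⁅b, s * c * s⁻¹⁆ = u ∨ ⁅b, s * c * s⁻¹⁆ = z * u) := by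
  have sr := H.sr hs sh
  have n1 := H.nu1 hb bb
  have bc := H.nu2 hb bb
  have gQ := H.gen hb m
  have mc := H.nY m
  have mbc := n1 ▸ H.nY mc
  have hc := conj_mem_of_norm H.nh hb
  have cc : h * b * h⁻¹ * (h * b * h⁻¹) = 1 := by rw [← conj_sq', bb]; simp
  have sc : s * (h * b * h⁻¹) * s⁻¹ = b * (h * b * h⁻¹) := by
    rw [conj_mul', conj_mul', sh, conj_inv' sh, conj_of_mul sb, n1]
    conv_lhs => rw [← cube' H.B H.l (H.QP hb)]
    group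
  have yc : ⁅h * b * h⁻¹, r⁆ = h * ⁅b, r⁆ * h⁻¹ := by rw [conj_comm, conj_of_mul H.hr]
  generalize h * b * h⁻¹ = c at *
  have hs' := mul_mem (H.PS H.rP) hs
  have k : ∀ t ∈ Q, t ∉ YY P U → ∀ v ∈ Q, v ∉ YY P U → t * v = v * t → s * t * s⁻¹ = v →
      ⁅t, r * s * t * (r * s)⁻¹⁆ ≠ 1 := fun t ht mt v hv mv c j i => by
    have hy := H.cY' (H.QP hv)
    rw [conj_conj j (conj_eq_comm r v), H.cr (YY_le H.nUP (commutatorElement_inv v r ▸ inv_mem hy))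
      (H.cm0 ht hv), comm_eq_one c, mul_one, ← commutatorElement_inv v] at i
    exact mv (H.f5 hv (inv_mem_iff.1 (H.f4 ht mt (inv_mem hy) (by rw [← commutatorElement_inv, i, inv_one]))))
  have ss' : r * s * (r * s) = 1 := by rw [mul_assoc, ← mul_assoc s, sr, mul_assoc, ss, mul_one, H.rr]
  obtain ⟨J, h1, h2⟩ := H.jr (conj_conj e (H.cp H.rP (mul_mem H.zU H.uU))) hs' ss' H.QP (fun _ hx _ => H.cm0 hx)
    (H.nQ.norm hs') hb hc bb cc bc (k b hb m b hb m rfl (conj_of_mul sb))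
    (k c hc mc _ (mul_mem hb hc) mbc (by rw [← mul_assoc, ← bc]) sc)
    (k _ (mul_mem hb hc) mbc c hc mc (by rw [← mul_assoc, ← bc]) (by
      rw [conj_two (conj_of_mul sb) sc, ← mul_assoc, bb, one_mul]))
  refine ⟨b, c, r * s, s, H.nQ.le hb, H.nQ.le hc, hs', hs, ⟨J, ss, by rw [← mul_assoc, sr], sb,
    by rw [← sc, inv_eq_of_sq ss]⟩, ?_, h1, h2⟩
  obtain ⟨K, hK⟩ : ∃ K, K = closure {b, c, r * s, s} := ⟨_, rfl⟩
  have mb : b ∈ K := hK ▸ subset_closure (by simp)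
  have mc : c ∈ K := hK ▸ subset_closure (by simp)
  have ms : s ∈ K := hK ▸ subset_closure (by simp)
  have ms' : r * s ∈ K := hK ▸ subset_closure (by simp)
  have mr := (mul_mem_cancel_right ms).1 ms'
  have cj : ∀ x ∈ K, r * s * x * (r * s)⁻¹ ∈ K := fun x hx => mul_mem (mul_mem ms' hx) (inv_mem ms')
  have mz := h1 ▸ SR.comm_mem' mb (cj b mb)
  have mw := SR.comm_mem' mb (cj c mc)
  have lU : U ≤ K := H.hU ▸ V4_le.2
    ⟨mz, h2.elim (fun j => j ▸ mw) fun j => (mul_mem_cancel_left mz).1 (j ▸ mw)⟩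
  have lY : YY P U ≤ K := fun y hy => by
    have w0 := H.cY' (H.QP hb)
    have w1 := conj_mem_of_norm H.B.hY w0
    have k0 := SR.comm_mem' mb mr
    have k1 := yc ▸ SR.comm_mem' mc mr
    have q : ∀ x ∈ YY P U, x ∈ K → y * y = x * x → y ∈ K := fun x hx m j => (mul_mem_cancel_right m).1
      (lU (H.B.iv (mul_mem hy hx) (by rw [H.B.sqm hy hx, j, H.ee (H.B.sqU hx)])))
    rcases H.B.root w0 (fun j => m (H.f5 hb j)) (H.B.sqU hy) with j | j | j | j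
    exacts [lU (H.B.iv hy j), q _ w0 k0 j, q _ w1 k1 j, q _ (mul_mem w0 w1) (mul_mem k0 k1) j]
  have lQ : Q ≤ K := gQ.trans (sup_le lY (V4_le.2 ⟨mb, mc⟩))
  have lP : P ≤ K := fun x hx => (H.ix x hx).elim (fun j => lQ j) fun j => (mul_mem_cancel_left mr).1 (lQ j)
  exact hK ▸ fun x hx => (H.idx e hs hx).elim (fun j => lP j) fun j => (mul_mem_cancel_left ms).1 (lP j)

theorem ly1 (ss : s * s = 1) (ha : a ∈ Q) (i : a * a = 1) (m : a ∉ YY P U) (v : a * (s * a * s⁻¹) ∈ U) :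
    ∃ b c s f, b ∈ S ∧ c ∈ S ∧ s ∈ S ∧ f ∈ S ∧ LyR b c s f ∧ S ≤ closure {b, c, s, f} ∧ ⁅b, s * b * s⁻¹⁆ = z ∧
      (⁅b, s * c * s⁻¹⁆ = u ∨ ⁅b, s * c * s⁻¹⁆ = z * u) := by
  have p := H.QP ha
  have sq : ∀ x, a * (a * x) = x := fun x => by rw [← mul_assoc, i, one_mul]
  rcases H.fixs e hs v (by
    rw [conj_mul', ← conj_conj (y := s) (x := s) rfl rfl, ss, one_mul, inv_one, mul_one]
    refine Eq.trans ?_ (H.iU v)
    rw [mul_inv_rev, ← conj_inv' (rfl : s * a * s⁻¹ = _), inv_eq_of_sq i]) with j | j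
  · exact H.ly2 e hs sh ss ha i m (mul_of_conj (by rw [← sq (s * a * s⁻¹), j, mul_one]))
  · refine H.ly2 e hs sh ss (mul_mem ha (H.UQ H.uU)) (by rw [sq_mul_cent (H.PU p) H.B.e H.uU, i])
      (fun k => m ((mul_mem_cancel_right (le_YY H.nUP H.uU)).1 k)) (mul_of_conj ?_)
    rw [conj_mul', e, ← sq (s * a * s⁻¹), j, mul_assoc, H.zzx]

theorem typeL (h2 : ∀ H : Subgroup G, H.index ≠ 2) :
    ∃ b c s f, b ∈ S ∧ c ∈ S ∧ s ∈ S ∧ f ∈ S ∧ LyR b c s f ∧ S ≤ closure {b, c, s, f} ∧ ⁅b, s * b * s⁻¹⁆ = z ∧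
      (⁅b, s * c * s⁻¹⁆ = u ∨ ⁅b, s * c * s⁻¹⁆ = z * u) := by
  obtain ⟨x, hx, i, m⟩ := H.exiv e hs sh h2
  obtain ⟨k, ha, d⟩ := H.toz' hx fun j => m (H.B.iv j i)
  have i' : k * x * k⁻¹ * (k * x * k⁻¹) = 1 := by rw [← conj_sq', i]; simp
  generalize k * x * k⁻¹ = a at ha d i'
  have ma : a ∉ YY P U := fun j => H.z1 (d.symm.trans (H.dY j))
  have sr := H.sr hs sh
  have hy := H.sY' hs sh ha d
  obtain ⟨y, j⟩ : ∃ y, s * a * s⁻¹ = a * y := ⟨a⁻¹ * (s * a * s⁻¹), by group⟩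
  rw [j, inv_mul_cancel_left] at hy
  have y2 := H.f6 ha ma hy (by rw [← j, ← conj_sq', i']; simp)
  have ai := inv_eq_of_sq i'
  have ra : a * (r * a * r⁻¹) = ⁅a, r⁆ := by rw [commutatorElement_def, ai]; group
  have y' := H.nYS.conj_mem hs hy
  have ss : s * s = 1 := (H.s2 hs sh).resolve_right fun q => ma (H.f5 ha (by
    rw [← ra, ← q, conj_conj j (conj_two j rfl), mul_assoc, ← mul_assoc a, i', one_mul]
    refine H.B.iv (mul_mem hy y') ?_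
    rw [H.B.sqm hy y', ← conj_sq']
    rcases y2 with k | k
    · simp [H.ee k]
    · rw [k, d, H.cz hs, H.zz]))
  rcases y2 with k | k
  · exact H.ly1 e hs sh ss ha i' ma (by rwa [j, ← mul_assoc, i', one_mul])
  · refine H.ly1 (conj_conj e (H.cp H.rP (mul_mem H.zU H.uU))) (mul_mem (H.PS H.rP) hs)
      (conj_conj sh (conj_inv' (conj_of_mul H.hr.symm)))
      (by rw [mul_assoc, ← mul_assoc s, sr, mul_assoc, ss, mul_one, H.rr]) ha i' ma ?_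
    have w := H.cY' (H.QP ha)
    rw [conj_conj j (conj_two rfl (H.ri' hy)), ← mul_assoc, ra]
    refine H.B.iv (mul_mem w (inv_mem hy)) ?_
    rw [H.B.sqm w (inv_mem hy), ← mul_inv_rev, k]
    exact mul_inv_cancel _
end

theorem fin (ht : k * r * k⁻¹ ∈ Q) (hU : ∀ v ∈ U, k * v * k⁻¹ ∈ Q) (hY : ∀ y ∈ YY P U, k * y * k⁻¹ ∈ P) : False := by
  obtain ⟨w, hw, m⟩ := H.ew
  have w1 : w * w ≠ 1 := fun j => m (H.B.iv hw j)
  have cm : ∀ x ∈ YY P U, ∀ y ∈ YY P U, k * x * k⁻¹ * (k * y * k⁻¹) = k * y * k⁻¹ * (k * x * k⁻¹) := fun x hx y hy => by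
    rw [← conj_mul', H.B.a.mul_comm hx hy, conj_mul']
  have iv : ∀ y ∈ YY P U, k * r * k⁻¹ * (k * y * k⁻¹) * (k * r * k⁻¹ * (k * y * k⁻¹)) = 1 := fun y hy => by
    rw [← conj_mul', ← conj_sq', mul_of_conj (H.ri' hy), mul_assoc y⁻¹, ← mul_assoc r, mul_of_conj (conj_inv' (H.ri' hy)),
      inv_inv, mul_assoc y, H.rr]; simp
  have nU : ∀ y ∈ YY P U, k * r * k⁻¹ * (k * y * k⁻¹) ∉ U := fun y hy j => w1 (by
    have : k * (w * (r * y) * w⁻¹) * k⁻¹ = k * (r * y) * k⁻¹ :=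
      Eq.trans (by group) ((H.cp (hY w hw) j).trans (by group))
    rwa [mul_left_inj, mul_right_inj, mul_assoc, mul_assoc, H.B.a.mul_comm hy (inv_mem hw), ← mul_assoc r,
      mul_of_conj (conj_inv' (H.ri' hw)), inv_inv, mul_assoc, ← mul_assoc, mul_eq_right] at this)
  have nY : ∀ y ∈ YY P U, k * r * k⁻¹ * (k * y * k⁻¹) ∉ YY P U := fun y hy j => nU y hy (H.B.iv j (iv y hy))
  have WQ : ∀ y ∈ YY P U, k * y * k⁻¹ ∈ Q := fun y hy => by_contra fun f => by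
    have a := H.out1 (mul_mem (H.QP ht) (hY y hy)) (fun j => f ((mul_mem_cancel_left ht).1 j)) (iv y hy ▸ one_mem U)
    have b := H.out1 (hY y hy) f (conj_sq' k y ▸ H.out2 a (hU _ (H.B.sqU hy)) (by
      rw [← conj_mul', ← conj_mul', ← conj_mul', H.cm (mul_mem H.rP (YY_le H.nUP hy)) (H.B.sqU hy)]))
    have := H.nYS.conj_mem' (H.PS H.rP) (mul_mem a (inv_mem b))
    exact nY 1 (one_mem _) (by simpa [mul_assoc] using this)
  have w2 := conj_mem_of_norm H.B.hY hw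
  have F := H.B.fp (H.B.sqU hw) w1
  have key : ∀ y ∈ YY P U, y * y ≠ 1 → k * y * k⁻¹ ∈ YY P U → ∀ x ∈ YY P U,
      k * (y * y) * k⁻¹ = dl r (k * r * k⁻¹ * (k * x * k⁻¹)) := fun y hy y1 j x hx =>
    conj_sq' k y ▸ (H.f6 (mul_mem ht (WQ x hx)) (nY x hx) j (by
      rw [iv x hx, mul_assoc _ (k * x * k⁻¹), ← conj_mul' k x, iv _ (mul_mem hx hy)])).resolve_left fun i =>
      conj_ne_one y1 k (conj_sq' k y ▸ H.ee i)
  have d1 : ∀ y ∈ YY P U, y * y ≠ 1 → dl r (k * y * k⁻¹) ≠ 1 := fun y hy y1 j => by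
    have j := H.d1 (WQ y hy) j
    have a : ∀ x ∈ YY P U, k * x * k⁻¹ ∈ YY P U := fun x hx => H.d1 (WQ x hx) (by
      have := (key y hy y1 j 1 (one_mem _)).symm.trans (key y hy y1 j x hx)
      rwa [H.dm (H.QP ht) (hY x hx), mul_one, mul_inv_cancel, mul_one, eq_comm, mul_eq_left] at this)
    have := (key w hw w1 (a w hw) 1 (one_mem _)).trans
      (key _ w2 (conj_sq' h w ▸ F.r.ne_one) (a _ w2) 1 (one_mem _)).symm
    rw [mul_left_inj, mul_right_inj, ← conj_sq'] at this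
    exact F.ne this
  have a := H.dU (hY w hw)
  have b := H.dU (hY _ w2)
  have e : dl r (k * (w * (h * w * h⁻¹)) * k⁻¹) = dl r (k * w * k⁻¹) * dl r (k * (h * w * h⁻¹) * k⁻¹) := by
    rw [conj_mul', H.dm (hY w hw) (hY _ w2)]
  have F' := fp_of H.B.e a b (d1 w hw w1) (d1 _ w2 (conj_sq' h w ▸ F.r.ne_one)) fun j => d1 _ (mul_mem hw w2)
    (by rw [H.B.sqm hw w2, ← conj_sq']; exact F.iv.ne_one) (by rw [e, j, H.ee b])
  have q := fun y hy j => nY y hy (H.dY' ht (WQ y hy) j)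
  rcases F'.mem.1 (v4_eq H.c4 F' a b ▸ H.dU (H.QP ht)) with j | j | j | j
  exacts [q 1 (one_mem _) (by rw [j, mul_one, mul_inv_cancel, H.dY (one_mem _)]), q w hw j, q _ w2 j,
    q _ (mul_mem hw w2) (j.trans e.symm)]

theorem k5 (h2 : ∀ H : Subgroup G, H.index ≠ 2) (lS : S ≤ P) : False := by
  have rS := H.PS H.rP
  obtain ⟨g, ht, h3⟩ := xfer2 H.hS h2 (commutator_le.2 fun x hx y hy => H.YQ (H.l (cN H.B (lS hx) (lS hy)))) H.ir rS
    H.rQ fun y hy _ => H.ix y (lS hy)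
  have gP : ∀ v ∈ U, g * v * g⁻¹ ∈ P := fun v hv => lS (h3 v (H.nUS.le hv) (H.cm H.rP hv).symm)
  have gQ : ∀ v ∈ U, g * v * g⁻¹ ∈ Q := fun v hv => by_contra fun f => by
    have a := H.out1 (gP v hv) f (by rw [← conj_sq', H.ee hv]; simp)
    have k : ∀ w ∈ U, w ≠ 1 → g * w * g⁻¹ ∉ Q := fun w hw w1 j => by
      obtain ⟨y, hy, rfl⟩ := H.rt hw
      exact H.tw (fun x hx _ => lS hx) H.ir (fun i => H.rQ (H.UQ i)) (YY_le H.nUP hy) hw w1 (H.ri' hy)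
        (H.out2 a ht (by rw [← conj_mul', H.cm H.rP hv, conj_mul']))
        (H.out2 a j (by rw [← conj_mul', H.ab.mul_comm hw hv, conj_mul']))
    exact k _ (mul_mem H.zU H.uU) H.f.iv.ne_one
      (conj_mul' g z u ▸ H.two (gP z H.zU) (gP u H.uU) (k z H.zU H.z1) (k u H.uU H.f.r.ne_one))
  have c8 : ∀ x ∈ P, x * x = 1 → x ∉ U → ♯(U ⊔ zpowers x : Subgroup G) = 8 := fun x hx i m => by
    rw [Invol.card_sup_zpowers (H.nUP.norm hx) (i ▸ one_mem U) m, H.c4]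
  obtain ⟨E, hE⟩ : ∃ E, E = U ⊔ zpowers r := ⟨_, rfl⟩
  have cE : ♯E = 8 := hE ▸ c8 r H.rP H.rr fun j => H.rQ (H.UQ j)
  have aE : Abel E := hE ▸ H.ab.sup (abel_zpowers r) (cent_symm (zpowers_le.2 (H.PU H.rP)))
  have eE : ∀ x ∈ E, x * x = 1 := fun x hx => by
    rcases (Invol.mem_sup_zpowers_iff (H.nUP.norm H.rP) (H.rr ▸ one_mem U)).1 (hE ▸ hx) with j | j
    · exact H.ee j
    · rw [← inv_mul_cancel_right x r, ← H.cm H.rP j, sq_mul_cent (H.PU H.rP) H.B.e j, H.rr]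
  have eE' : ∀ g, ∀ x ∈ cj g E, x * x = 1 := fun g x' hx' => by
    obtain ⟨x, hx, rfl⟩ := mem_cj_iff.1 hx'
    rw [← conj_sq', eE x hx]; simp
  have EQ : cj g E ≤ Q := by
    rw [hE, cj_sup, cj_zpowers]
    refine sup_le (fun x' hx' => ?_) (zpowers_le.2 ht)
    obtain ⟨x, hx, rfl⟩ := mem_cj_iff.1 hx'
    exact gQ x hx
  obtain ⟨j, jP, jc, jE⟩ : ∃ j ∈ P, j ∈ 𝐂 (cj g E) ∧ j ∉ cj g E := by
    by_cases l : U ≤ cj g E
    swap
    · obtain ⟨v, hv, m⟩ := SetLike.not_le_iff_exists.1 l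
      exact ⟨v, H.UP hv, cent_symm ((EQ.trans H.QP).trans H.PU) hv, m⟩
    obtain ⟨a, ha, m⟩ := exists_not_mem (A := U) (B := cj g E) (by rw [card_cj, cE, H.c4]; omega)
    have i := eE' g a ha
    have aQ := EQ ha
    have mY : a ∉ YY P U := fun j => m (H.B.iv j i)
    have p := conj_mem_of_norm H.nhP (H.QP aQ)
    rw [← eq_of_le_of_card_ge (sup_le l (zpowers_le.2 ha)) (by rw [card_cj, cE, c8 a (H.QP aQ) i m])]
    refine ⟨_, p, by rw [cent_sup, cent_zpowers]; exact ⟨H.PU p, mem_cent1.2 (H.nu2 aQ i).symm⟩, fun j => ?_⟩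
    rcases (Invol.mem_sup_zpowers_iff (H.nUP.norm (H.QP aQ)) (i ▸ one_mem U)).1 j with j | j
    · exact H.nY mY (le_YY H.nUP j)
    · rw [inv_eq_of_sq i, ← H.nu2 aQ i, H.nu1 aQ i] at j
      exact H.nY (H.nY mY) (le_YY H.nUP j)
  have DN : Cm H.nUP r ≤ 𝐍 E := le_norm_of_cj_le fun d hd => by
    rw [hE, cj_sup, cj_zpowers, cj_of_norm (H.nUP.norm hd.1), conj_eq_comm]
    exact sup_le le_sup_left (zpowers_le.2 (mul_mem (mem_sup_left hd.2) (mem_sup_right (mem_zpowers r))))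
  obtain ⟨T, hT, lT⟩ := exists_syl_le DN (H.kP.le fun _ j => j.1)
  rw [← cj_cent, mem_cj] at jc
  obtain ⟨c, hc, lc⟩ := hT.syl_cj_le (zpowers_le.2 (cent_le_norm E jc)) (by simpa using ((H.kP.elt jP).conj g⁻¹).zpowers)
  obtain ⟨k, -, lk⟩ := H.hS.syl_cj_le le_top hT.pi
  have kP : ∀ x ∈ T, k * x * k⁻¹ ∈ P := fun x hx => lS (lk (conj_mem_cj.2 hx))
  have YT : YY P U ≤ T := fun y hy => lT ⟨YY_le H.nUP hy, H.B.cU hy H.rP⟩
  have ET : E ≤ T := hE ▸ sup_le ((le_YY H.nUP).trans YT) (zpowers_le.2 (lT ⟨H.rP, by simp⟩))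
  have kQ : ∀ x ∈ E, k * x * k⁻¹ ∈ Q := fun x hx => by_contra fun f => by
    have i := eE' k _ (conj_mem_cj.2 hx)
    have p := kP x (ET hx)
    have a := H.out1 p f (i ▸ one_mem U)
    have q : ∀ y ∈ T, y * x = x * y → k * y * k⁻¹ ∈ U ⊔ zpowers (k * x * k⁻¹) := fun y hy e => by
      have e' : k * y * k⁻¹ * (k * x * k⁻¹) = k * x * k⁻¹ * (k * y * k⁻¹) := by rw [← conj_mul', e, conj_mul']
      by_cases b : k * y * k⁻¹ ∈ Q
      · exact mem_sup_left (H.out2 a b e')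
      · exact (mul_mem_cancel_right (mem_sup_right (mem_zpowers _))).1
          (mem_sup_left (H.out2 a (H.two (kP y hy) p b f) (by rw [← mul_assoc (k * x * k⁻¹), ← e'])))
    have := q _ (lc (conj_mem_cj.2 (mem_zpowers _))) (mem_cent.1 (conj_mem_of_norm (norm_le_norm_cent E hc) jc) x hx).symm
    rw [← eq_of_le_of_card_ge (show cj k E ≤ U ⊔ zpowers (k * x * k⁻¹) from fun y' hy' => by
      obtain ⟨y, hy, rfl⟩ := mem_cj_iff.1 hy'
      exact q y (ET hy) (aE.mul_comm hy hx)) (by rw [card_cj, cE, c8 _ p i fun j => f (H.UQ j)]), conj_mem_cj] at this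
    exact jE (mem_cj.2 ((mem_norm.1 hc _).2 this))
  exact H.fin (kQ r (hE ▸ mem_sup_right (mem_zpowers r))) (fun v hv => kQ v (hE ▸ mem_sup_left hv))
    fun y hy => kP y (YT hy)

end SP

theorem inj_of_ctr {K : Type*} [Group K] [Finite K] {n : ℕ} (c : Nat.card K = 2 ^ n) {z : K}
    (k : ∀ x, (∀ y, y * x = x * y) → x = 1 ∨ x = z) {φ : K →* G} (e : φ z ≠ 1) : Function.Injective φ := by
  refine (MonoidHom.ker_eq_bot_iff φ).1 (by_contra fun f => ?_)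
  obtain ⟨x, hx, x1⟩ := (bot_or_exists_ne_one _).resolve_left ((piGrp_of_card Nat.prime_two
    (card_top.trans c)).nil.inf_center_ne_bot (normalIn_top.2 inferInstance) f)
  exact e (((k x fun y => hx.2.2 y trivial).resolve_left x1) ▸ hx.1)

open CF.W2 CF.Cod CF.Comp in
theorem JR.lift (H : JR b c s) (n : ⁅b, s * b * s⁻¹⁆ ≠ 1) :
    ∃ φ : El TJ →* G, Function.Injective φ ∧ φ.range = closure {b, c, s} := by
  have hr : ∀ r ∈ RJ, ev (env [b, c, s]) r = 1 := by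
    simp only [RJ, List.forall_mem_cons, List.not_mem_nil, false_imp_iff, implies_true, and_true]
    refine ⟨show b * (b * 1) = 1 from ?_, show c * (c * 1) = 1 from ?_, show s * (s * 1) = 1 from ?_,
      show b * (c * (b * (c * 1))) = 1 from ?_,
      show b * (c * (s * (b * (c * (s * (b * (s * (c * (s * (c * (s * (b * (s * 1))))))))))))) = 1 from ?_,
      show b * (c * (s * (b * (c * (s * (c * (s * (b * (s * (b * (s * (c * (s * 1))))))))))))) = 1 from ?_⟩ <;>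
      rw [mul_one]
    exacts [H.bb, H.cc, H.ss, by rw [← mul_assoc c, ← H.bc, mul_assoc, H.cc, mul_one, H.bb],
      by simpa only [mul_assoc] using H.r1, by simpa only [mul_assoc] using H.r2]
  refine ⟨pJ.lift hr, inj_of_ctr (n := 7) El.card (fun x k => J.ctr x (k _).symm (k _).symm (k _).symm) fun e => n ?_,
    le_antisymm ?_ ((closure_le _).2 ?_)⟩
  · have := (pJ.lift_w hr (u := [1, 5, 1, 5, 1, 5, 1, 5]) rfl).symm.trans e
    rw [commutatorElement_def, ← conj_inv' (rfl : s * b * s⁻¹ = _), inv_eq_of_sq H.bb, inv_eq_of_sq H.ss, ← this]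
    show _ = b * (s * (b * (s * (b * (s * (b * (s * 1)))))))
    simp only [mul_assoc, mul_one]
  · rw [pJ.range_lift, clo_le]
    refine fun w _ => ev_mem (fun k => ?_) w
    rcases k with _ | _ | _ | k
    exacts [subset_closure (.inl rfl), subset_closure (.inr (.inl rfl)), subset_closure (.inr (.inr rfl)), one_mem _]
  · rintro _ (rfl | rfl | rfl)
    exacts [⟨_, pJ.lift_g hr 0 rfl⟩, ⟨_, pJ.lift_g hr 1 rfl⟩, ⟨_, pJ.lift_g hr 2 rfl⟩]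

open CF.W2 CF.Cod in
/-- the classification -/
theorem classify (H : N0 S z u) (h2 : ∀ K : Subgroup G, K.index ≠ 2)
    (ht : ∃ t ∈ S, t * t = 1 ∧ t * u = u * t ∧ t ∉ V4 z u) (cu : IsConj u z) :
    (∃ φ : El TJ →* G, SM φ ∧ φ.range = S) ∨
    (∃ p : Par, p.ε = -1 ∧ 3 ≤ p.n ∧ ∃ φ : GT p →* G, SM φ ∧ φ.range = S ∧ W2.Dz φ GT.u GT.z ∧ φ GT.z = z) ∨
    ∃ b c s f, b ∈ S ∧ c ∈ S ∧ s ∈ S ∧ f ∈ S ∧ LyR b c s f ∧ S ≤ closure {b, c, s, f} ∧ ⁅b, s * b * s⁻¹⁆ = z ∧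
      (⁅b, s * c * s⁻¹⁆ = u ∨ ⁅b, s * c * s⁻¹⁆ = z * u) := by
  obtain ⟨t, ht, tt, tu, m⟩ := ht
  obtain ⟨h, K, hs⟩ := setupST H ⟨ht, mem_cent1.2 tu⟩ tt m cu
  replace hs := hs.imp_left (le_inf le_rfl)
  rcases K.dich with l | ⟨B, w, hw, mw⟩
  · obtain j | ⟨s, hs, e, sh⟩ := hs
    · exact absurd (H.ivm ht tt tu fun s hs => K.cY l (j ht) (j hs)) m
    obtain ⟨b, hb, c, hc, J, h1, h3⟩ := K.typeJ e hs l sh
    obtain ⟨φ, i, r⟩ := J.lift (h1 ▸ H.z1)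
    have : φ.range = S := r.trans (le_antisymm ((closure_le _).2 (by
      rintro _ (rfl | rfl | rfl)
      exacts [hb.1, hc.1, hs])) h3)
    exact .inl ⟨φ, ⟨i, this ▸ H.hS⟩, this⟩
  by_cases l : S ⊓ 𝐂₁ u ⊓ 𝐂 (YY (S ⊓ 𝐂₁ u) (V4 z u)) ≤ YY (S ⊓ 𝐂₁ u) (V4 z u)
  · obtain ⟨r, L⟩ := K.sp B hw mw l hs
    obtain j | ⟨s, hs, e, sh⟩ := hs
    exacts [(L.k5 h2 j).elim, .inr (.inr (L.typeL e hs sh h2))]
  · obtain ⟨r, L⟩ := K.sqN B hw mw l
    obtain j | ⟨s, hs, e, sh⟩ := hs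
    exacts [(L.kill h2 (fun _ hx => (B.ivN hx).2) (one_mem S) (by simp) fun x hx => .inl (j hx)).elim,
      .inr (.inl (L.typeG h2 l e hs sh))]

end CF.N8
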